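import Cfsg.Agent.Lib.CharApps.Kazarin
import Cfsg.Agent.Lib.CharApps.KazarinAbelian

/-!
# Elements with classes of prime power size
-/

set_option autoImplicit false
set_option linter.style.haveILetI false

namespace CfsgLib.CharApps.QBaer

open Cfsg CfsgLib.Base

variable {G : Type*} [Group G] [Finite G] {q : ℕ} [hq : Fact q.Prime]

theorem index_dvd_relIndex {C P : Subgroup G} (h : C.index.Coprime P.index) :
    C.index ∣ C.relIndex P := by
  refine h.dvd_of_dvd_mul_right (⟨(C ⊓ P).relIndex C, ?_⟩ : C.index ∣ C.relIndex P * P.index)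
  rw [← Subgroup.inf_relIndex_right C P, Subgroup.relIndex_mul_index inf_le_right,
    mul_comm C.index, Subgroup.relIndex_mul_index inf_le_left]

theorem exists_left_factor {C P : Subgroup G} (h : C.index.Coprime P.index) (x : G) :
    ∃ y ∈ P, y⁻¹ * x ∈ C := by
  have hdvd := index_dvd_relIndex h
  let f : P ⧸ C.subgroupOf P → G ⧸ C := Quotient.map' Subtype.val fun a b hab => by
    rw [QuotientGroup.leftRel_apply] at hab ⊢
    exact hab
  have hinj : Function.Injective f := by
    intro a b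
    induction a using Quotient.inductionOn' with
    | h a => induction b using Quotient.inductionOn' with
      | h b =>
        intro hab
        exact QuotientGroup.eq.2 ((QuotientGroup.eq).1 hab :)
  have hle : Nat.card (G ⧸ C) ≤ Nat.card (P ⧸ C.subgroupOf P) :=
    Nat.le_of_dvd Nat.card_pos hdvd
  obtain ⟨y, hy⟩ := (hinj.bijective_of_nat_card_le hle).2 (QuotientGroup.mk x)
  induction y using Quotient.inductionOn' with
  | h y => exact ⟨y, y.2, QuotientGroup.eq.1 hy⟩

/-- The class size, as an index, is unchanged by conjugation. -/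
theorem index_centralizer_conj_eq (g x : G) :
    (Subgroup.centralizer ({g * x * g⁻¹} : Set G)).index =
      (Subgroup.centralizer ({x} : Set G)).index := by
  have h : (Subgroup.centralizer ({g * x * g⁻¹} : Set G)) =
      (Subgroup.centralizer ({x} : Set G)).comap (MulAut.conj g⁻¹).toMonoidHom := by
    ext c
    simp only [Subgroup.mem_comap, Subgroup.mem_centralizer_singleton_iff,
      MulEquiv.coe_toMonoidHom, MulAut.conj_apply, inv_inv]
    constructor <;> intro hc
    · calc g⁻¹ * c * g * x = g⁻¹ * (c * (g * x * g⁻¹)) * g := by group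
        _ = g⁻¹ * (g * x * g⁻¹ * c) * g := by rw [hc]
        _ = x * (g⁻¹ * c * g) := by group
    · calc c * (g * x * g⁻¹) = g * (g⁻¹ * c * g * x) * g⁻¹ := by group
        _ = g * (x * (g⁻¹ * c * g)) * g⁻¹ := by rw [hc]
        _ = g * x * g⁻¹ * c := by group
  rw [h, Subgroup.index_comap_of_surjective]
  exact (MulAut.conj g⁻¹).surjective

/-- A surjective image has a class of dividing size. -/
theorem index_centralizer_map_dvd {H : Type*} [Group H] (f : G →* H)
    (hf : Function.Surjective f) (x : G) :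
    (Subgroup.centralizer ({f x} : Set H)).index ∣
      (Subgroup.centralizer ({x} : Set G)).index := by
  refine dvd_trans (Subgroup.index_dvd_of_le ?_) (Subgroup.index_map_dvd _ hf)
  rintro _ ⟨c, hc, rfl⟩
  rw [Subgroup.mem_centralizer_singleton_iff, ← map_mul, ← map_mul]
  exact congrArg _ (Subgroup.mem_centralizer_singleton_iff.1 hc)

/-- An element of a Sylow `q`-subgroup with class of `q`-power size is conjugate only to
elements of that subgroup. -/
theorem conj_eq_conj_sylow (Q : Sylow q G) {x : G} {a : ℕ}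
    (ha : (Subgroup.centralizer ({x} : Set G)).index = q ^ a) (g : G) :
    ∃ y ∈ (Q : Subgroup G), g * x * g⁻¹ = y * x * y⁻¹ := by
  have hcop : (Subgroup.centralizer ({x} : Set G)).index.Coprime (Q : Subgroup G).index := by
    rw [ha]
    exact ((hq.out.coprime_iff_not_dvd).2 Q.not_dvd_index).pow_left a
  obtain ⟨y, hy, hc⟩ := exists_left_factor hcop g
  refine ⟨y, hy, ?_⟩
  calc g * x * g⁻¹ = y * ((y⁻¹ * g) * x) * (y⁻¹ * g)⁻¹ * y⁻¹ := by group
    _ = y * (x * (y⁻¹ * g)) * (y⁻¹ * g)⁻¹ * y⁻¹ := by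
        rw [Subgroup.mem_centralizer_singleton_iff.1 hc]
    _ = y * x * y⁻¹ := by group

/-- An element of a Sylow `q`-subgroup with class of `q`-power size lies in `O_q(G)`. -/
theorem mem_pCore_of_class (Q : Sylow q G) {x : G} (hx : x ∈ (Q : Subgroup G)) {a : ℕ}
    (ha : (Subgroup.centralizer ({x} : Set G)).index = q ^ a) : x ∈ pCore q G := by
  haveI : (Subgroup.normalClosure ({x} : Set G)).Normal := Subgroup.normalClosure_normal
  refine le_pCore (N := Subgroup.normalClosure ({x} : Set G)) (Q.isPGroup'.to_le ?_)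
    (Subgroup.subset_normalClosure (Set.mem_singleton x))
  rw [Subgroup.normalClosure, Subgroup.closure_le]
  intro z hz
  obtain ⟨x', hx', hconj⟩ := Group.mem_conjugatesOfSet_iff.1 hz
  obtain rfl : x' = x := hx'
  obtain ⟨g, rfl⟩ := isConj_iff.1 hconj
  obtain ⟨y, hy, he⟩ := conj_eq_conj_sylow Q ha g
  rw [SetLike.mem_coe, he]
  exact mul_mem (mul_mem hy hx) (inv_mem hy)

omit [Finite G] in
/-- A coprime action that translates by a fixed element is trivial. -/
theorem eq_one_of_conj_eq_mul {n z c : G} (hn : (orderOf n).Coprime q) {k : ℕ}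
    (hc : c ^ q ^ k = 1) (hnc : n * c = c * n) (h : n * z * n⁻¹ = c * z) : c = 1 := by
  have key : ∀ i : ℕ, n ^ i * z * (n ^ i)⁻¹ = c ^ i * z := by
    intro i
    induction i with
    | zero => simp
    | succ i ih =>
      calc n ^ (i + 1) * z * (n ^ (i + 1))⁻¹ = n * (n ^ i * z * (n ^ i)⁻¹) * n⁻¹ := by
            rw [pow_succ']; group
        _ = (n * c ^ i * n⁻¹) * (n * z * n⁻¹) := by rw [ih]; group
        _ = c ^ i * (c * z) := by
            rw [h, ((show Commute n c from hnc).pow_right i).eq, mul_inv_cancel_right]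
        _ = c ^ (i + 1) * z := by rw [pow_succ, mul_assoc]
  have h1 := key (orderOf n)
  rw [pow_orderOf_eq_one, inv_one, one_mul, mul_one, right_eq_mul] at h1
  have h2 : orderOf c ∣ Nat.gcd (orderOf n) (q ^ k) :=
    Nat.dvd_gcd (orderOf_dvd_of_pow_eq_one h1) (orderOf_dvd_of_pow_eq_one hc)
  rw [Nat.Coprime.gcd_eq_one (hn.pow_right k), Nat.dvd_one, orderOf_eq_one_iff] at h2
  exact h2

/-- An element of prime power order prime to `q` fixes some element in each class of
`q`-power size. -/
theorem exists_conj_commute (Q : Sylow q G) {x : G} {a : ℕ}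
    (ha : (Subgroup.centralizer ({x} : Set G)).index = q ^ a) {n : G} {r : ℕ} (hr : r.Prime)
    (hrq : r ≠ q) (hn : IsPGroup r (Subgroup.zpowers n)) :
    ∃ y ∈ (Q : Subgroup G), n * (y * x * y⁻¹) = y * x * y⁻¹ * n := by
  haveI := Fact.mk hr
  set C := Subgroup.centralizer ({x} : Set G)
  have hnd : ¬ r ∣ Nat.card (G ⧸ C) := by
    rw [← Subgroup.index_eq_card, ha]
    exact fun h => hrq ((Nat.prime_dvd_prime_iff_eq hr hq.out).1 (hr.dvd_of_dvd_pow h))
  obtain ⟨p, hp⟩ := hn.nonempty_fixed_point_of_prime_not_dvd_card (G ⧸ C) hnd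
  obtain ⟨g, rfl⟩ := QuotientGroup.mk_surjective p
  have h1 : QuotientGroup.mk (s := C) (n * g) = QuotientGroup.mk g := hp ⟨n, Subgroup.mem_zpowers n⟩
  have h2 := Subgroup.mem_centralizer_singleton_iff.1 (QuotientGroup.eq.1 h1.symm)
  obtain ⟨y, hy, he⟩ := conj_eq_conj_sylow Q ha g
  refine ⟨y, hy, ?_⟩
  rw [← he]
  calc n * (g * x * g⁻¹) = g * ((g⁻¹ * (n * g)) * x) * g⁻¹ := by group
    _ = g * (x * (g⁻¹ * (n * g))) * g⁻¹ := by rw [h2]
    _ = g * x * g⁻¹ * n := by group

/-- A proper subgroup of a `q`-group does not meet every class. -/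
theorem eq_top_of_meets_classes {P : Type*} [Group P] [Finite P] (hP : IsPGroup q P)
    (M : Subgroup P) (h : ∀ x : P, ∃ y : P, y * x * y⁻¹ ∈ M) : M = ⊤ := by
  haveI := hP.isNilpotent
  by_contra hM
  obtain hM' | ⟨K, hK, hMK⟩ := eq_top_or_exists_le_coatom M
  · exact hM hM'
  haveI : K.Normal := Subgroup.normalizer_eq_top_iff.1 (hK.2 _ (normalizerCondition_of_isNilpotent (G := P) K (lt_top_iff_ne_top.2 hK.1)))
  refine hK.1 (top_le_iff.1 fun x _ => ?_)
  obtain ⟨y, hy⟩ := h x
  have := (inferInstance : K.Normal).conj_mem _ (hMK hy) y⁻¹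
  simpa [mul_assoc] using this

/-- A coprime element centralizes a normal Sylow subgroup all of whose classes have `q`-power
size. -/
theorem comm_of_all_q (Q : Sylow q G)
    (hA : ∀ x ∈ (Q : Subgroup G), ∃ a, (Subgroup.centralizer ({x} : Set G)).index = q ^ a)
    {n : G} {r : ℕ} (hr : r.Prime) (hrq : r ≠ q) (hn : IsPGroup r (Subgroup.zpowers n)) :
    n ∈ Subgroup.centralizer ((Q : Subgroup G) : Set G) := by
  have htop : (Subgroup.centralizer ({n} : Set G)).subgroupOf (Q : Subgroup G) = ⊤ := by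
    refine eq_top_of_meets_classes Q.isPGroup' _ fun x => ?_
    obtain ⟨a, ha⟩ := hA x x.2
    obtain ⟨y, hy, he⟩ := exists_conj_commute Q ha hr hrq hn
    exact ⟨⟨y, hy⟩, Subgroup.mem_centralizer_singleton_iff.2 he.symm⟩
  rw [Subgroup.subgroupOf_eq_top] at htop
  exact Subgroup.mem_centralizer_iff.2 fun x hx =>
    Subgroup.mem_centralizer_singleton_iff.1 (htop hx)

/-- A coprime element centralizes a nonabelian normal Sylow subgroup whose noncentral classes
have `q`-power size. -/
theorem comm_of_noncentral_q (Q : Sylow q G) [hQn : (Q : Subgroup G).Normal]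
    (hne : ¬ IsMulCommutative (Q : Subgroup G))
    (hA : ∀ x ∈ (Q : Subgroup G), x ∉ Subgroup.centralizer ((Q : Subgroup G) : Set G) →
      ∃ a, (Subgroup.centralizer ({x} : Set G)).index = q ^ a)
    {n : G} {r : ℕ} (hr : r.Prime) (hrq : r ≠ q) (hn : IsPGroup r (Subgroup.zpowers n)) :
    n ∈ Subgroup.centralizer ((Q : Subgroup G) : Set G) := by
  classical
  set C₀ := (Subgroup.centralizer ({n} : Set G)).subgroupOf (Q : Subgroup G) with hC₀
  have hC₀c : ∀ u : (Q : Subgroup G), u ∈ C₀ → (u : G) * n = n * u := fun u hu =>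
    Subgroup.mem_centralizer_singleton_iff.1 hu
  have htop : C₀ ⊔ Subgroup.center (Q : Subgroup G) = ⊤ := by
    refine eq_top_of_meets_classes Q.isPGroup' _ fun x => ?_
    by_cases hx : (x : G) ∈ Subgroup.centralizer ((Q : Subgroup G) : Set G)
    · refine ⟨1, Subgroup.mem_sup_right (Subgroup.mem_center_iff.2 fun g => Subtype.ext ?_)⟩
      simpa using Subgroup.mem_centralizer_iff.1 hx g g.2
    · obtain ⟨a, ha⟩ := hA x x.2 hx
      obtain ⟨y, hy, he⟩ := exists_conj_commute Q ha hr hrq hn
      exact ⟨⟨y, hy⟩, Subgroup.mem_sup_left (Subgroup.mem_centralizer_singleton_iff.2 he.symm)⟩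
  have hdec : ∀ x : (Q : Subgroup G), ∃ u ∈ C₀, ∃ w ∈ Subgroup.center (Q : Subgroup G), u * w = x :=
    fun x => Subgroup.mem_sup_of_normal_right.1 (htop ▸ Subgroup.mem_top x)
  -- elements of `Q` central in `Q` are fixed
  have hcen : ∀ z ∈ Subgroup.center (Q : Subgroup G), z ∈ C₀ := by
    intro z hz
    obtain ⟨x, hx⟩ : ∃ x ∈ C₀, x ∉ Subgroup.center (Q : Subgroup G) := by
      by_contra hcon
      push Not at hcon
      refine hne ⟨⟨fun g h => ?_⟩⟩
      obtain ⟨u, hu, w, hw, rfl⟩ := hdec h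
      exact Subgroup.mem_center_iff.1 (mul_mem (hcon u hu) hw) g
    obtain ⟨hxC, hxz⟩ := hx
    have hnz : n * (z : G) * n⁻¹ ∈ (Q : Subgroup G) := hQn.conj_mem _ z.2 n
    have hxzQ : ((x * z : (Q : Subgroup G)) : G) ∉
        Subgroup.centralizer ((Q : Subgroup G) : Set G) := fun h => by
      refine hxz ?_
      have h1 : x * z ∈ Subgroup.center (Q : Subgroup G) := Subgroup.mem_center_iff.2 fun g =>
        Subtype.ext (by simpa using Subgroup.mem_centralizer_iff.1 h g g.2)
      simpa using mul_mem h1 (inv_mem hz)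
    obtain ⟨a, ha⟩ := hA _ (x * z).2 hxzQ
    obtain ⟨y, hy, he⟩ := conj_eq_conj_sylow Q ha n
    -- `he : n (x z) n⁻¹ = y (x z) y⁻¹`
    obtain ⟨u, hu, w, hw, huw⟩ := hdec ⟨y, hy⟩
    set c : G := (u : G) * x * (u : G)⁻¹ * (x : G)⁻¹ with hc
    have hyxz : y * ((x * z : (Q : Subgroup G)) : G) * y⁻¹ = c * x * z := by
      have : (⟨y, hy⟩ : (Q : Subgroup G)) * (x * z) * (⟨y, hy⟩ : (Q : Subgroup G))⁻¹ =
          u * x * u⁻¹ * z := by
        rw [← huw]
        have hwc := Subgroup.mem_center_iff.1 hw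
        have hzc := Subgroup.mem_center_iff.1 hz
        calc u * w * (x * z) * (u * w)⁻¹ = u * (w * (x * z)) * w⁻¹ * u⁻¹ := by group
          _ = u * (x * z * w) * w⁻¹ * u⁻¹ := by rw [← hwc (x * z)]
          _ = u * x * (z * u⁻¹) := by group
          _ = u * x * (u⁻¹ * z) := by rw [← hzc u⁻¹]
          _ = u * x * u⁻¹ * z := by group
      have := congrArg Subtype.val this
      simp only [Subgroup.coe_mul, Subgroup.coe_inv] at this ⊢
      rw [this, hc]
      group
    have hnx : n * (x : G) * n⁻¹ = x := by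
      rw [← hC₀c x hxC]; group
    have hnxz : n * ((x * z : (Q : Subgroup G)) : G) * n⁻¹ = x * (n * z * n⁻¹) := by
      rw [Subgroup.coe_mul]
      calc n * ((x : G) * z) * n⁻¹ = (n * x * n⁻¹) * (n * z * n⁻¹) := by group
        _ = x * (n * z * n⁻¹) := by rw [hnx]
    rw [hnxz, hyxz] at he
    have hcQ : c ∈ (Q : Subgroup G) := by
      rw [hc]; exact mul_mem (mul_mem (mul_mem u.2 x.2) (inv_mem u.2)) (inv_mem x.2)
    have hnc : n * c = c * n := by
      have h1 : Commute n (u : G) := (hC₀c u hu).symm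
      have h2 : Commute n (x : G) := (hC₀c x hxC).symm
      exact ((h1.mul_right h2).mul_right h1.inv_right).mul_right h2.inv_right
    -- `x (n z n⁻¹) = c x z` with `z` central in `Q`
    have hzx : n * (z : G) * n⁻¹ = ((x : G)⁻¹ * c * x) * z := by
      calc n * (z : G) * n⁻¹ = (x : G)⁻¹ * ((x : G) * (n * z * n⁻¹)) := by group
        _ = (x : G)⁻¹ * (c * x * z) := by rw [he]
        _ = _ := by group
    obtain ⟨k, hk⟩ := Q.isPGroup' (⟨(x : G)⁻¹ * c * x, mul_mem (mul_mem (inv_mem x.2) hcQ) x.2⟩)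
    have hk' : ((x : G)⁻¹ * c * x) ^ q ^ k = 1 := by
      simpa using congrArg Subtype.val hk
    have hcop : (orderOf n).Coprime q := by
      haveI := Fact.mk hr
      rw [← Nat.card_zpowers]
      obtain ⟨m, hm⟩ := hn.exists_card_eq
      rw [hm]
      exact ((Nat.coprime_primes hr hq.out).2 hrq).pow_left m
    have h2 : Commute n (x : G) := (hC₀c x hxC).symm
    have h1 := eq_one_of_conj_eq_mul hcop hk' ((h2.inv_right.mul_right hnc).mul_right h2) hzx
    rw [h1, one_mul] at hzx
    refine Subgroup.mem_centralizer_singleton_iff.2 ?_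
    show (z : G) * n = n * z
    conv_lhs => rw [← hzx]
    group
  have : C₀ = ⊤ := by
    rw [← htop, eq_comm, sup_eq_left]
    exact hcen
  rw [hC₀, Subgroup.subgroupOf_eq_top] at this
  exact Subgroup.mem_centralizer_iff.2 fun x hx =>
    Subgroup.mem_centralizer_singleton_iff.1 (this hx)

/-- If every element of prime power order prime to `q` centralizes `Q`, the centralizer of `Q`
has `q`-power index. -/
theorem index_centralizer_sylow_eq_pow (Q : Sylow q G)
    (h : ∀ (n : G) (r : ℕ), r.Prime → r ≠ q → IsPGroup r (Subgroup.zpowers n) →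
      n ∈ Subgroup.centralizer ((Q : Subgroup G) : Set G)) :
    ∃ m, (Subgroup.centralizer ((Q : Subgroup G) : Set G)).index = q ^ m := by
  set C := Subgroup.centralizer ((Q : Subgroup G) : Set G)
  refine ⟨_, Nat.eq_prime_pow_of_unique_prime_dvd Subgroup.index_ne_zero_of_finite
    fun {r} hr hrd => ?_⟩
  by_contra hrq
  haveI := Fact.mk hr
  obtain ⟨P⟩ : Nonempty (Sylow r G) := inferInstance
  have hPC : (P : Subgroup G) ≤ C := fun n hn =>
    h n r hr hrq (P.isPGroup'.to_le (Subgroup.zpowers_le.2 hn))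
  exact P.not_dvd_index (hrd.trans (Subgroup.index_dvd_of_le hPC))

/-- The Sylow subgroup is abelian or all classes have `q`-power size. -/
theorem abelian_or_all_q (Q : Sylow q G)
    (hBaer : ∀ x ∈ (Q : Subgroup G), ∃ (r a : ℕ), r.Prime ∧
      (Subgroup.centralizer ({x} : Set G)).index = r ^ a)
    (hcentral : ∀ x ∈ (Q : Subgroup G), ∀ r a : ℕ, r.Prime → r ≠ q →
      (Subgroup.centralizer ({x} : Set G)).index = r ^ a →
      x ∈ Subgroup.centralizer ((Q : Subgroup G) : Set G)) :
    IsMulCommutative (Q : Subgroup G) ∨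
      ∀ x ∈ (Q : Subgroup G), ∃ a, (Subgroup.centralizer ({x} : Set G)).index = q ^ a := by
  by_cases hne : IsMulCommutative (Q : Subgroup G)
  · exact Or.inl hne
  right
  set C := Subgroup.centralizer ((Q : Subgroup G) : Set G)
  have hA : ∀ x ∈ (Q : Subgroup G), x ∉ C →
      ∃ a, (Subgroup.centralizer ({x} : Set G)).index = q ^ a := by
    intro x hx hxC
    obtain ⟨r, a, hr, ha⟩ := hBaer x hx
    by_cases hrq : r = q
    · exact ⟨a, hrq ▸ ha⟩
    · exact absurd (hcentral x hx r a hr hrq ha) hxC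
  have hQle : (Q : Subgroup G) ≤ pCore q G := by
    intro u hu
    by_contra huO
    have huC : u ∈ C := by
      by_contra huC
      obtain ⟨a, ha⟩ := hA u hu huC
      exact huO (mem_pCore_of_class Q hu ha)
    obtain ⟨v, hv, hvC⟩ : ∃ v ∈ (Q : Subgroup G), v ∉ C := by
      by_contra hcon
      push Not at hcon
      exact hne ⟨⟨fun g h => Subtype.ext (Subgroup.mem_centralizer_iff.1 (hcon h h.2) g g.2)⟩⟩
    obtain ⟨a, ha⟩ := hA v hv hvC
    have hvO := mem_pCore_of_class Q hv ha
    have huv : u * v ∉ C := fun h => hvC (by simpa using mul_mem (inv_mem huC) h)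
    obtain ⟨b, hb⟩ := hA _ (mul_mem hu hv) huv
    exact huO (by simpa using mul_mem (mem_pCore_of_class Q (mul_mem hu hv) hb) (inv_mem hvO))
  haveI hQn : (Q : Subgroup G).Normal :=
    le_antisymm hQle (pCore_le_sylow Q) ▸ pCore_normal q G
  obtain ⟨m, hm⟩ := index_centralizer_sylow_eq_pow Q fun n r hr hrq hn =>
    comm_of_noncentral_q Q hne hA hr hrq hn
  intro x hx
  have hd : (Subgroup.centralizer ({x} : Set G)).index ∣ q ^ m := by
    rw [← hm]
    exact Subgroup.index_dvd_of_le (Subgroup.centralizer_le (Set.singleton_subset_iff.2 hx))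
  obtain ⟨a, -, ha⟩ := (Nat.dvd_prime_pow hq.out).1 hd
  exact ⟨a, ha⟩

/-- The case of classes of `q`-power size: a normal complement. -/
theorem direct_factor (Q : Sylow q G)
    (hA : ∀ x ∈ (Q : Subgroup G), ∃ a, (Subgroup.centralizer ({x} : Set G)).index = q ^ a) :
    (Q : Subgroup G).Normal ∧ ∃ N : Subgroup G, N.Normal ∧ N.IsComplement' (Q : Subgroup G) := by
  have hQle : (Q : Subgroup G) ≤ pCore q G := fun x hx => by
    obtain ⟨a, ha⟩ := hA x hx
    exact mem_pCore_of_class Q hx ha
  haveI hQn : (Q : Subgroup G).Normal :=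
    le_antisymm hQle (pCore_le_sylow Q) ▸ pCore_normal q G
  refine ⟨hQn, ?_⟩
  obtain ⟨N, hN⟩ := Subgroup.exists_left_complement'_of_coprime Q.card_coprime_index
  refine ⟨N, ?_, hN⟩
  set C := Subgroup.centralizer ((Q : Subgroup G) : Set G)
  obtain ⟨m, hm⟩ := index_centralizer_sylow_eq_pow Q fun n r hr hrq hn =>
    comm_of_all_q Q hA hr hrq hn
  have hNcop : (Nat.card N).Coprime q := by
    rw [← hN.index_eq_card]
    exact ((hq.out.coprime_iff_not_dvd).2 Q.not_dvd_index).symm
  have hNC : N ≤ C := fun n hn => by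
    have hord : orderOf (QuotientGroup.mk' C n) = 1 := by
      refine Nat.eq_one_of_dvd_coprimes (hNcop.pow_right m) ?_ ?_
      · exact (orderOf_map_dvd _ n).trans ((Subgroup.orderOf_mk n hn).symm ▸ orderOf_dvd_natCard (⟨n, hn⟩ : N))
      · rw [← hm, Subgroup.index_eq_card]
        exact orderOf_dvd_natCard _
    rw [orderOf_eq_one_iff, QuotientGroup.mk'_apply, QuotientGroup.eq_one_iff] at hord
    exact hord
  refine Subgroup.normalizer_eq_top_iff.1 (top_le_iff.1 ?_)
  rw [← hN.sup_eq_top]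
  refine sup_le Subgroup.le_normalizer fun y hy => Subgroup.mem_normalizer_iff.2 fun k => ?_
  refine ⟨fun hk => ?_, fun hk => ?_⟩
  · have := Subgroup.mem_centralizer_iff.1 (hNC hk) y hy
    rw [this, mul_inv_cancel_right]; exact hk
  · have := Subgroup.mem_centralizer_iff.1 (hNC hk) y hy
    have e : k = y * k * y⁻¹ := by
      calc k = y⁻¹ * ((y * k * y⁻¹) * y) := by group
        _ = y⁻¹ * (y * (y * k * y⁻¹)) := by rw [this]
        _ = y * k * y⁻¹ := by group
    rw [e]; exact hk

/-- Two elements with classes of coprime prime power sizes in an abelian Sylow subgroup. -/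
theorem no_two_primes_aux {x y : G} {r s a b c : ℕ} (hr : r.Prime) (hs : s.Prime) (hrs : r ≠ s)
    (hrq : r ≠ q) (hxy : x * y = y * x) (hyq : ∃ k, y ^ q ^ k = 1)
    (hx : (Subgroup.centralizer ({x} : Set G)).index = r ^ a)
    (hy : (Subgroup.centralizer ({y} : Set G)).index = s ^ b)
    (hz : (Subgroup.centralizer ({x * y} : Set G)).index = r ^ c) :
    (Subgroup.centralizer ({y} : Set G)).index = 1 := by
  classical
  set Cx := Subgroup.centralizer ({x} : Set G) with hCx
  set Cy := Subgroup.centralizer ({y} : Set G) with hCy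
  set Cz := Subgroup.centralizer ({x * y} : Set G) with hCz
  have hcop : Cy.index.Coprime Cx.index := by
    rw [hx, hy]; exact ((Nat.coprime_primes hs hr).2 hrs.symm).pow _ _
  -- any two conjugates are simultaneously conjugate to `x` and `y`
  have hsim : ∀ g h : G, ∃ k : G, k * x * k⁻¹ = g * x * g⁻¹ ∧ k * y * k⁻¹ = h * y * h⁻¹ := by
    intro g h
    obtain ⟨c₁, hc₁, hd⟩ := exists_left_factor hcop (g⁻¹ * h)
    have h1 := Subgroup.mem_centralizer_singleton_iff.1 hc₁
    have h2 := Subgroup.mem_centralizer_singleton_iff.1 hd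
    refine ⟨g * c₁, ?_, ?_⟩
    · calc g * c₁ * x * (g * c₁)⁻¹ = g * (c₁ * x) * c₁⁻¹ * g⁻¹ := by group
        _ = g * (x * c₁) * c₁⁻¹ * g⁻¹ := by rw [h1]
        _ = g * x * g⁻¹ := by group
    · calc g * c₁ * y * (g * c₁)⁻¹
            = g * c₁ * (y * (c₁⁻¹ * (g⁻¹ * h))) * (c₁⁻¹ * (g⁻¹ * h))⁻¹ * (g * c₁)⁻¹ := by group
        _ = g * c₁ * ((c₁⁻¹ * (g⁻¹ * h)) * y) * (c₁⁻¹ * (g⁻¹ * h))⁻¹ * (g * c₁)⁻¹ := by rw [h2]
        _ = h * y * h⁻¹ := by group
  -- the classes as sets
  let K : G → Set G := fun u => Set.range fun g : G => g * u * g⁻¹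
  have hK : ∀ u : G, (K u).ncard = (Subgroup.centralizer ({u} : Set G)).index := by
    intro u
    rw [Subgroup.index_eq_card, ← Nat.card_coe_set_eq]
    refine (Nat.card_congr (Equiv.ofBijective
      (fun w : G ⧸ Subgroup.centralizer ({u} : Set G) => (⟨Quotient.liftOn' w
        (fun g => g * u * g⁻¹) ?_, ?_⟩ : K u)) ⟨?_, ?_⟩)).symm
    · intro g h hgh
      rw [QuotientGroup.leftRel_apply, Subgroup.mem_centralizer_singleton_iff] at hgh
      calc g * u * g⁻¹ = g * (u * (g⁻¹ * h)) * h⁻¹ := by group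
        _ = g * ((g⁻¹ * h) * u) * h⁻¹ := by rw [hgh]
        _ = h * u * h⁻¹ := by group
    · induction w using Quotient.inductionOn' with
      | h g => exact ⟨g, rfl⟩
    · intro w₁ w₂ h12
      induction w₁ using Quotient.inductionOn' with
      | h g₁ => induction w₂ using Quotient.inductionOn' with
        | h g₂ =>
          have e : g₁ * u * g₁⁻¹ = g₂ * u * g₂⁻¹ := congrArg Subtype.val h12
          refine QuotientGroup.eq.2 (Subgroup.mem_centralizer_singleton_iff.2 ?_)
          calc g₁⁻¹ * g₂ * u = g₁⁻¹ * (g₂ * u * g₂⁻¹) * g₂ := by group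
            _ = g₁⁻¹ * (g₁ * u * g₁⁻¹) * g₂ := by rw [e]
            _ = u * (g₁⁻¹ * g₂) := by group
    · rintro ⟨_, g, rfl⟩
      exact ⟨QuotientGroup.mk g, rfl⟩
  -- the size of the class of the product
  have hca : c ≤ a := by
    have h1 : Cz.index ∣ r ^ a * s ^ b := by
      have hle : Cx ⊓ Cy ≤ Cz := by
        rintro u ⟨hu1, hu2⟩
        rw [hCz, Subgroup.mem_centralizer_singleton_iff]
        exact Commute.mul_right (Subgroup.mem_centralizer_singleton_iff.1 hu1)
          (Subgroup.mem_centralizer_singleton_iff.1 hu2)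
      refine (Subgroup.index_dvd_of_le hle).trans ?_
      rw [← Subgroup.relIndex_mul_index (inf_le_left : Cx ⊓ Cy ≤ Cx), Subgroup.inf_relIndex_left,
        hx, mul_comm]
      refine mul_dvd_mul_left _ ?_
      exact hy ▸ dvd_of_eq (le_antisymm ((Subgroup.relIndex_le_of_le_right le_top
        Subgroup.index_ne_zero_of_finite).trans_eq (Subgroup.relIndex_top_right _))
        (Nat.le_of_dvd (Nat.pos_of_ne_zero Subgroup.index_ne_zero_of_finite) (index_dvd_relIndex hcop)))
    rw [hz] at h1
    exact (Nat.pow_dvd_pow_iff_le_right hr.one_lt).1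
      ((((Nat.coprime_primes hr hs).2 hrs).pow c b).dvd_of_dvd_mul_right h1)
  have hmaps : ∀ h : G, (fun u => u * (h * y * h⁻¹)) '' K x = K (x * y) := by
    intro h
    refine Set.eq_of_subset_of_ncard_le ?_ ?_ (Set.toFinite _)
    · rintro _ ⟨_, ⟨g, rfl⟩, rfl⟩
      obtain ⟨k, hk1, hk2⟩ := hsim g h
      refine ⟨k, ?_⟩
      show k * (x * y) * k⁻¹ = g * x * g⁻¹ * (h * y * h⁻¹)
      rw [← hk1, ← hk2]; group
    · rw [Set.ncard_image_of_injective _ (mul_left_injective _), hK, hK, ← hCz, hz, ← hCx, hx]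
      exact Nat.pow_le_pow_right hr.pos hca
  let S : Subgroup G :=
    { carrier := {v | (fun u => u * v) '' K x = K x}
      one_mem' := by simp
      mul_mem' := fun {v w} hv hw => by
        show (fun u => u * (v * w)) '' K x = K x
        conv_rhs => rw [← show (fun u => u * w) '' K x = K x from hw,
          ← show (fun u => u * v) '' K x = K x from hv, Set.image_image]
        simp only [mul_assoc]
      inv_mem' := fun {v} hv => by
        show (fun u => u * v⁻¹) '' K x = K x
        conv_lhs => rw [← show (fun u => u * v) '' K x = K x from hv, Set.image_image]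
        simp }
  set T : Set G := Set.range fun h : G => h * y * h⁻¹ * y⁻¹
  set D := Subgroup.closure T with hD
  have hDS : D ≤ S := by
    rw [hD, Subgroup.closure_le]
    rintro _ ⟨h, rfl⟩
    show (fun u => u * (h * y * h⁻¹ * y⁻¹)) '' K x = K x
    have h2 := hmaps 1
    simp only [one_mul, inv_one, mul_one] at h2
    calc (fun u => u * (h * y * h⁻¹ * y⁻¹)) '' K x
          = (fun u => u * y⁻¹) '' ((fun u => u * (h * y * h⁻¹)) '' K x) := by
            rw [Set.image_image]; simp only [mul_assoc]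
      _ = (fun u => u * y⁻¹) '' ((fun u => u * y) '' K x) := by rw [hmaps h, h2]
      _ = K x := by rw [Set.image_image]; simp
  haveI hDn : D.Normal := by
    rw [hD]
    refine ⟨fun v hv g => ?_⟩
    have hmap : (Subgroup.closure T).map (MulAut.conj g).toMonoidHom ≤ Subgroup.closure T := by
      rw [MonoidHom.map_closure, Subgroup.closure_le]
      rintro _ ⟨_, ⟨h, rfl⟩, rfl⟩
      have h1 : g * h * y * (g * h)⁻¹ * y⁻¹ ∈ Subgroup.closure T :=
        Subgroup.subset_closure ⟨g * h, rfl⟩
      have h2 : g * y * g⁻¹ * y⁻¹ ∈ Subgroup.closure T := Subgroup.subset_closure ⟨g, rfl⟩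
      have h3 := mul_mem h1 (inv_mem h2)
      have e : (MulAut.conj g).toMonoidHom (h * y * h⁻¹ * y⁻¹) =
          g * h * y * (g * h)⁻¹ * y⁻¹ * (g * y * g⁻¹ * y⁻¹)⁻¹ := by
        simp only [MulEquiv.coe_toMonoidHom, MulAut.conj_apply]; group
      rw [SetLike.mem_coe, e]; exact h3
    exact hmap ⟨v, hv, rfl⟩
  -- `D` acts freely on the class of `x` by translation
  have hpre : (QuotientGroup.mk : G → G ⧸ D) ⁻¹' ((QuotientGroup.mk : G → G ⧸ D) '' K x) = K x := by
    refine Set.Subset.antisymm ?_ (Set.subset_preimage_image _ _)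
    rintro v ⟨u, hu, huv⟩
    have h1 : (fun w => w * (u⁻¹ * v)) '' K x = K x := hDS (QuotientGroup.eq.1 huv)
    rw [← h1]
    exact ⟨u, hu, mul_inv_cancel_left u v⟩
  have hdvd : Nat.card D ∣ r ^ a := by
    rw [← hx, hCx, ← hK x, ← Nat.card_coe_set_eq, ← hpre,
      Nat.card_congr (QuotientGroup.preimageMkEquivSubgroupProdSet D _), Nat.card_prod]
    exact dvd_mul_right _ _
  have hDy : D ≤ Cy := by
    refine Subgroup.relIndex_eq_one.1 (Nat.eq_one_of_dvd_coprimes
      (((Nat.coprime_primes hs hr).2 hrs.symm).pow b a) ?_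
      ((Subgroup.index_dvd_card _).trans hdvd))
    rw [← hy]
    exact Kazarin.relIndex_dvd_index Cy D
  obtain ⟨k, hk⟩ := hyq
  have hKy : ∀ h : G, h * y * h⁻¹ = y := by
    intro h
    set d := h * y * h⁻¹ * y⁻¹ with hd
    have hdD : d ∈ D := Subgroup.subset_closure ⟨h, rfl⟩
    have hdy : Commute d y := Subgroup.mem_centralizer_singleton_iff.1 (hDy hdD)
    have he : h * y * h⁻¹ = d * y := by rw [hd]; group
    have hdq : d ^ q ^ k = 1 := by
      have hp := congrArg (fun u => u ^ q ^ k) he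
      simp only [conj_pow, hdy.mul_pow, hk, mul_one, mul_inv_cancel] at hp
      exact hp.symm
    have hd1 : d = 1 := by
      rw [← orderOf_eq_one_iff]
      exact Nat.eq_one_of_dvd_coprimes (((Nat.coprime_primes hr hq.out).2 hrq).pow a k)
        ((Subgroup.orderOf_mk d hdD ▸ orderOf_dvd_natCard (⟨d, hdD⟩ : D)).trans hdvd)
        (orderOf_dvd_of_pow_eq_one hdq)
    rw [he, hd1, one_mul]
  rw [Subgroup.index_eq_one, eq_top_iff]
  intro g _
  rw [hCy, Subgroup.mem_centralizer_singleton_iff]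
  calc g * y = g * y * g⁻¹ * g := by group
    _ = y * g := by rw [hKy g]

end CfsgLib.CharApps.QBaer
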