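import Mathlib
import Cfsg.Agent.Lib.PGroups.Basic
import Cfsg.Agent.Lib.PGroups.UniqueOrderP
import Cfsg.Agent.Lib.OddOrder.Puig

/-!
# A `2`-group with a unique central involution in which involutions with two conjugates are central
-/

set_option autoImplicit false
set_option linter.style.haveILetI false

namespace CfsgLib.CharApps.QBaer

variable {P : Type*} [Group P] [Finite P]

omit [Finite P] in
theorem zpow_conj_eq {a e : P} {k : ℤ} (h : e * a * e⁻¹ = a ^ k) (i : ℤ) :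
    e * a ^ i * e⁻¹ = a ^ (k * i) := by rw [← conj_zpow, h, zpow_mul]

/-- Either `P` is cyclic or it has a cyclic subgroup `⟨a⟩` of index two inverted modulo `4`. -/
theorem cyclic_or_index_two (hP : IsPGroup 2 P)
    (huniq : ∀ z w : P, z * z = 1 → z ≠ 1 → (∀ g, g * z = z * g) →
      w * w = 1 → w ≠ 1 → (∀ g, g * w = w * g) → w = z)
    (hcen : ∀ e z : P, e * e = 1 → (∀ g, g * e * g⁻¹ = e ∨ g * e * g⁻¹ = e * z) →
      ∀ g, g * e = e * g) :
    IsCyclic P ∨ ∃ (a g : P) (n k : ℕ), 2 ≤ n ∧ orderOf a = 2 ^ n ∧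
      (Subgroup.zpowers a).index = 2 ∧ g * a * g⁻¹ = a ^ k ∧ k % 4 = 3 := by
  classical
  haveI := Fact.mk Nat.prime_two
  haveI := hP.isNilpotent
  obtain ⟨A, hAn, hAc, hAcent⟩ :=
    CfsgLib.OddOrder.exists_abelian_normal_self_centralizing (G := P)
  haveI := hAn
  haveI := hAc
  -- `A` is cyclic
  let E : Subgroup P :=
    { carrier := {y | y ∈ A ∧ y * y = 1}
      one_mem' := ⟨A.one_mem, one_mul 1⟩
      mul_mem' := fun {x y} hx hy => ⟨A.mul_mem hx.1 hy.1, by
        have hc : y * x = x * y :=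
          congrArg Subtype.val (mul_comm' (⟨y, hy.1⟩ : A) ⟨x, hx.1⟩)
        rw [mul_assoc, ← mul_assoc y x, hc, mul_assoc x y y, hy.2, mul_one, hx.2]⟩
      inv_mem' := fun {x} hx => ⟨A.inv_mem hx.1, by rw [← mul_inv_rev, hx.2, inv_one]⟩ }
  haveI hEn : E.Normal := ⟨fun y hy g => ⟨hAn.conj_mem y hy.1 g, by
    rw [show g * y * g⁻¹ * (g * y * g⁻¹) = g * (y * y) * g⁻¹ by group, hy.2, mul_one,
      mul_inv_cancel]⟩⟩
  have hAcyc : IsCyclic A := by
    by_cases hE : E = ⊥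
    · refine CfsgLib.PGroups.isCyclic_of_abelian_of_unique (hP.to_subgroup A) (z := 1)
        (fun y hy => ?_) (one_pow 2)
      have hyE : (y : P) ∈ E := ⟨y.2, by
        have := congrArg Subtype.val hy; simpa [pow_two] using this⟩
      rw [hE, Subgroup.mem_bot] at hyE
      rw [show y = 1 from Subtype.ext hyE]
      exact one_mem _
    obtain ⟨z, hz, hz1⟩ := (E ⊓ Subgroup.center P).ne_bot_iff_exists_ne_one.1
      (CfsgLib.PGroups.inf_center_ne_bot hP hE) |> fun ⟨z, hz⟩ => (⟨z.1, z.2, fun h => hz (Subtype.ext h)⟩ : ∃ z, z ∈ E ⊓ Subgroup.center P ∧ z ≠ 1)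
    have hzc : ∀ g, g * z = z * g := fun g => Subgroup.mem_center_iff.1 hz.2 g
    have hzA : z ∈ A := hz.1.1
    have hzz : z * z = 1 := hz.1.2
    refine CfsgLib.PGroups.isCyclic_of_abelian_of_unique (hP.to_subgroup A) (z := ⟨z, hzA⟩)
      (fun y hy => ?_) (Subtype.ext (by simpa [pow_two] using hzz))
    have hyE : (y : P) ∈ E := ⟨y.2, by
      have := congrArg Subtype.val hy; simpa [pow_two] using this⟩
    by_contra hcon
    haveI hZn : (Subgroup.zpowers z).Normal :=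
      ⟨fun x hx g => by
        obtain ⟨i, rfl⟩ := Subgroup.mem_zpowers_iff.1 hx
        rw [← conj_zpow, hzc g, mul_inv_cancel_right]
        exact Subgroup.zpow_mem _ (Subgroup.mem_zpowers z) i⟩
    set π := QuotientGroup.mk' (Subgroup.zpowers z)
    haveI : (E.map π).Normal := hEn.map π (QuotientGroup.mk'_surjective _)
    have hne : E.map π ≠ ⊥ := fun h => by
      rw [Subgroup.map_eq_bot_iff, QuotientGroup.ker_mk'] at h
      obtain ⟨i, hi⟩ := Subgroup.mem_zpowers_iff.1 (h hyE)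
      exact hcon (Subgroup.mem_zpowers_iff.2 ⟨i, Subtype.ext (by simpa using hi)⟩)
    obtain ⟨⟨ē, hē⟩, hē1⟩ := (E.map π ⊓ Subgroup.center _).ne_bot_iff_exists_ne_one.1
      (CfsgLib.PGroups.inf_center_ne_bot (hP.to_quotient _) hne)
    obtain ⟨e, heE, rfl⟩ := hē.1
    have hezp : e ∉ Subgroup.zpowers z := fun h => hē1 (Subtype.ext ((QuotientGroup.eq_one_iff e).2 h))
    have hz2 : ∀ x ∈ Subgroup.zpowers z, x = 1 ∨ x = z := by
      intro x hx
      obtain ⟨i, rfl⟩ := Subgroup.mem_zpowers_iff.1 hx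
      rcases Int.even_or_odd i with ⟨j, rfl⟩ | ⟨j, rfl⟩
      · left; rw [← two_mul, zpow_mul, zpow_two, hzz, one_zpow]
      · right; rw [zpow_add, zpow_mul, zpow_two, hzz, one_zpow, one_mul, zpow_one]
    have hecen := hcen e z heE.2 fun g => by
      have h1 : π (g * e * g⁻¹) = π e := by
        rw [map_mul, map_mul, map_inv, Subgroup.mem_center_iff.1 hē.2 (π g), mul_inv_cancel_right]
      rcases hz2 _ (QuotientGroup.eq.1 h1.symm) with h | h
      · exact Or.inl (inv_mul_eq_one.1 h).symm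
      · exact Or.inr (eq_mul_of_inv_mul_eq h)
    refine hezp ?_
    by_cases he1 : e = 1
    · rw [he1]; exact one_mem _
    · rw [huniq z e hzz hz1 hzc heE.2 he1 hecen]; exact Subgroup.mem_zpowers z
  obtain ⟨⟨a, haA⟩, hagen⟩ := hAcyc.exists_generator
  have hAa : A = Subgroup.zpowers a := by
    refine le_antisymm (fun x hx => ?_) (Subgroup.zpowers_le.2 haA)
    obtain ⟨i, hi⟩ := Subgroup.mem_zpowers_iff.1 (hagen ⟨x, hx⟩)
    exact Subgroup.mem_zpowers_iff.2 ⟨i, by simpa using congrArg Subtype.val hi⟩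
  obtain ⟨n, hn⟩ := IsPGroup.iff_orderOf.1 hP a
  have hcentA : ∀ g, g * a = a * g → g ∈ A := fun g hg => by
    rw [← hAcent, Subgroup.mem_centralizer_iff]
    intro x hx
    rw [SetLike.mem_coe, hAa] at hx
    obtain ⟨i, rfl⟩ := Subgroup.mem_zpowers_iff.1 hx
    exact ((Commute.zpow_left (show Commute a g from hg.symm) i)).eq
  have hact : ∀ g, ∃ k : ℕ, g * a * g⁻¹ = a ^ k := fun g => by
    have := hAn.conj_mem a haA g
    rw [hAa, mem_powers_iff_mem_zpowers.symm] at this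
    exact (Submonoid.mem_powers_iff _ _).1 this |>.imp fun k hk => hk.symm
  rcases Nat.lt_or_ge n 2 with hn2 | hn2
  · refine Or.inl ?_
    have htop : ∀ g, g ∈ A := fun g => hcentA g (by
      obtain ⟨k, hk⟩ := hact g
      rw [← mul_inv_eq_iff_eq_mul, hk]
      have hoa : orderOf (g * a * g⁻¹) = orderOf a := by
        rw [← MulAut.conj_apply, MulEquiv.orderOf_eq]
      rw [hk] at hoa
      interval_cases n
      · rw [pow_zero, orderOf_eq_one_iff] at hn; rw [hn, one_pow]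
      · rw [← pow_mod_orderOf, hn, pow_one]
        rcases Nat.mod_two_eq_zero_or_one k with h | h
        · rw [← pow_mod_orderOf, hn, pow_one, h, pow_zero, orderOf_one] at hoa; omega
        · rw [h, pow_one])
    rw [show A = ⊤ from top_le_iff.1 fun g _ => htop g] at hAcyc
    exact (Subgroup.topEquiv (G := P)).isCyclic.1 hAcyc
  -- no element outside `A` acts by a power congruent to one mod four
  have hno : ∀ g k, g * a * g⁻¹ = a ^ k → g ∉ A → k % 4 = 3 := by
    intro g k hk hgA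
    have h4 : 4 ∣ 2 ^ n := (pow_dvd_pow 2 hn2 : 2 ^ 2 ∣ 2 ^ n)
    have hkodd : k % 2 = 1 := by
      by_contra hke
      have hoa : orderOf (g * a * g⁻¹) = orderOf a := by rw [← MulAut.conj_apply, MulEquiv.orderOf_eq]
      rw [hk, orderOf_pow, hn] at hoa
      have h2g : 2 ∣ Nat.gcd (2 ^ n) k := Nat.dvd_gcd (dvd_pow_self 2 (by omega)) (by omega)
      have h0 : 0 < 2 ^ n := by positivity
      have hlt : 2 ^ n / Nat.gcd (2 ^ n) k < 2 ^ n :=
        Nat.div_lt_self h0 (Nat.lt_of_lt_of_le (by norm_num) (Nat.le_of_dvd (Nat.gcd_pos_of_pos_left _ h0) h2g))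
      omega
    by_contra hk3
    have hk1 : k % 4 = 1 := by omega
    -- replace `g` by a power whose square lies in `A`
    obtain ⟨g, k, hk, hgA, hk1, hg2⟩ : ∃ g k, g * a * g⁻¹ = a ^ k ∧ g ∉ A ∧ k % 4 = 1 ∧ g * g ∈ A := by
      obtain ⟨j, hj⟩ := hP g
      revert g k
      induction j with
      | zero => intro g k hk hgA _ _ _ hj; rw [pow_zero, pow_one] at hj; exact absurd (hj ▸ A.one_mem) hgA
      | succ j ih =>
        intro g k hk hgA hkodd hk3 hk1 hj
        by_cases hgg : g * g ∈ A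
        · exact ⟨g, k, hk, hgA, hk1, hgg⟩
        · have hk' : g * g * a * (g * g)⁻¹ = a ^ (k * k) := by
            rw [show g * g * a * (g * g)⁻¹ = g * (g * a * g⁻¹) * g⁻¹ by group, hk, ← conj_pow, hk,
              ← pow_mul]
          have hm : (k * k) % 4 = 1 := by rw [Nat.mul_mod, hk1]
          exact ih (g * g) (k * k) hk' hgg (by omega) (by omega) hm
            (by rw [← pow_two, ← pow_mul, ← pow_succ']; exact hj)
    obtain ⟨s, hs⟩ : ∃ s : ℕ, g * g = a ^ s := by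
      rw [hAa, mem_powers_iff_mem_zpowers.symm] at hg2
      exact (Submonoid.mem_powers_iff _ _).1 hg2 |>.imp fun k hk => hk.symm
    -- congruences for the exponent
    have hdvd : ∀ i j : ℤ, a ^ i = a ^ j → ((2 ^ n : ℕ) : ℤ) ∣ i - j := fun i j h => by
      rw [← hn, orderOf_dvd_iff_zpow_eq_one, zpow_sub, h, mul_inv_cancel]
    obtain ⟨n', rfl⟩ : ∃ n', n = n' + 1 := ⟨n - 1, by omega⟩
    have hk' : g * a * g⁻¹ = a ^ (k : ℤ) := by rw [hk, zpow_natCast]
    have hk2 : g * g * a * (g * g)⁻¹ = a ^ ((k : ℤ) * k) := by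
      rw [show g * g * a * (g * g)⁻¹ = g * (g * a * g⁻¹) * g⁻¹ by group, hk', zpow_conj_eq hk']
    have hsq : ((2 ^ (n' + 1) : ℕ) : ℤ) ∣ (k : ℤ) * k - 1 := hdvd _ _ (by
      rw [← hk2, hs, zpow_one, (Commute.pow_self a s).eq, mul_inv_cancel_right])
    obtain ⟨u, hu⟩ : ∃ u : ℤ, (k : ℤ) + 1 = 2 * (2 * u + 1) := ⟨(k / 4 : ℕ), by omega⟩
    have hcop : IsCoprime ((2 : ℤ) ^ n') (2 * u + 1) :=
      IsCoprime.pow_left ⟨-u, 1, by ring⟩
    have hkm : (2 : ℤ) ^ n' ∣ (k : ℤ) - 1 := by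
      refine hcop.dvd_of_dvd_mul_left ?_
      obtain ⟨c, hc⟩ := hsq
      refine ⟨c, mul_left_cancel₀ (show (2 : ℤ) ≠ 0 by norm_num) ?_⟩
      push_cast at hc
      rw [pow_succ] at hc
      linear_combination hc - ((k : ℤ) - 1) * hu
    obtain ⟨c, hc⟩ := hkm
    have hcodd : ¬ (2 : ℤ) ∣ c := by
      rintro ⟨d, rfl⟩
      refine hgA (hcentA g (mul_inv_eq_iff_eq_mul.1 ?_))
      rw [hk', ← zpow_one a, ← zpow_mul, one_mul, ← mul_inv_eq_one, ← zpow_sub,
        ← orderOf_dvd_iff_zpow_eq_one, hn]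
      exact ⟨d, by push_cast; rw [pow_succ]; linarith [hc]⟩
    have hs2 : ((2 ^ (n' + 1) : ℕ) : ℤ) ∣ (s : ℤ) * ((k : ℤ) - 1) := by
      have := hdvd ((k : ℤ) * s) s (by
        rw [← zpow_conj_eq hk', zpow_natCast, ← hs]; group)
      convert this using 1; ring
    have hseven : (2 : ℤ) ∣ s := by
      obtain ⟨d, hd⟩ := hs2
      push_cast at hd
      rw [hc, pow_succ] at hd
      have h2 : (s : ℤ) * c = 2 * d := mul_left_cancel₀ (show (2 : ℤ) ^ n' ≠ 0 by positivity)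
        (by linear_combination hd)
      exact (Int.prime_two.dvd_or_dvd ⟨d, h2⟩).resolve_right hcodd
    obtain ⟨s', hs'⟩ := hseven
    obtain ⟨x, y, hxy⟩ := hcop
    set i : ℤ := -(s' * y) with hi
    set e := g * a ^ i with he
    have heq : e * e = 1 := by
      have h1 : e * e = g * a ^ i * g⁻¹ * (g * g) * a ^ i := by rw [he]; group
      rw [h1, zpow_conj_eq hk', hs, ← zpow_natCast, ← zpow_add, ← zpow_add,
        ← orderOf_dvd_iff_zpow_eq_one, hn]
      refine ⟨s' * x, ?_⟩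
      push_cast
      rw [hs', hi, pow_succ]
      linear_combination (-(s' * y)) * hu - (2 * s') * hxy
    have hek : ∀ b ∈ A, e * b * e⁻¹ = b ^ (k : ℤ) := by
      intro b hb
      rw [hAa] at hb
      obtain ⟨j, rfl⟩ := Subgroup.mem_zpowers_iff.1 hb
      rw [he, show g * a ^ i * a ^ j * (g * a ^ i)⁻¹ = g * a ^ j * g⁻¹ by group, zpow_conj_eq hk',
        ← zpow_mul, mul_comm]
    have hconj : ∀ h, h * e * h⁻¹ = e ∨ h * e * h⁻¹ = e * a ^ (2 ^ n') := by
      intro h
      have hcomm : (e⁻¹ * (h * e * h⁻¹)) * a = a * (e⁻¹ * (h * e * h⁻¹)) := by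
        have hb : h⁻¹ * a * h ∈ A := by simpa using hAn.conj_mem a haA h⁻¹
        have h1 : (h * e * h⁻¹) * a * (h * e * h⁻¹)⁻¹ = e * a * e⁻¹ := by
          rw [hek a haA, show (h * e * h⁻¹) * a * (h * e * h⁻¹)⁻¹ =
            h * (e * (h⁻¹ * a * h) * e⁻¹) * h⁻¹ by group, hek _ hb, ← conj_zpow]
          group
        rw [← mul_inv_eq_iff_eq_mul]
        calc e⁻¹ * (h * e * h⁻¹) * a * (e⁻¹ * (h * e * h⁻¹))⁻¹
            = e⁻¹ * ((h * e * h⁻¹) * a * (h * e * h⁻¹)⁻¹) * e := by group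
          _ = a := by rw [h1]; group
      have hmem := hcentA _ hcomm
      rw [hAa] at hmem
      obtain ⟨t, ht⟩ := Subgroup.mem_zpowers_iff.1 hmem
      have heh : h * e * h⁻¹ = e * a ^ t := by rw [ht, mul_inv_cancel_left]
      have heh2 : (h * e * h⁻¹) * (h * e * h⁻¹) = 1 := by
        rw [show (h * e * h⁻¹) * (h * e * h⁻¹) = h * (e * e) * h⁻¹ by group, heq, mul_one, mul_inv_cancel]
      rw [heh, show e * a ^ t * (e * a ^ t) = e * a ^ t * e⁻¹ * (e * e) * a ^ t by group,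
        hek _ (hAa ▸ Subgroup.zpow_mem _ (Subgroup.mem_zpowers a) t), heq, mul_one, ← zpow_mul,
        ← zpow_add, ← orderOf_dvd_iff_zpow_eq_one, hn] at heh2
      obtain ⟨d, hd⟩ := heh2
      push_cast at hd
      rw [pow_succ] at hd
      obtain ⟨f, rfl⟩ : (2 : ℤ) ^ n' ∣ t := by
        refine (IsCoprime.pow_left (m := n') (x := (2 : ℤ)) ⟨-u, 1, by ring⟩ : IsCoprime ((2 : ℤ) ^ n') (2 * u + 1)).dvd_of_dvd_mul_left ⟨d, ?_⟩
        exact mul_left_cancel₀ (show (2 : ℤ) ≠ 0 by norm_num) (by linear_combination hd - t * hu)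
      rcases Int.even_or_odd f with ⟨f', rfl⟩ | ⟨f', rfl⟩
      · left
        rw [heh, show (2 : ℤ) ^ n' * (f' + f') = ((orderOf a : ℕ) : ℤ) * f' by
          rw [hn]; push_cast; ring, zpow_mul, zpow_natCast, pow_orderOf_eq_one, one_zpow, mul_one]
      · right
        rw [heh, show (2 : ℤ) ^ n' * (2 * f' + 1) = ((orderOf a : ℕ) : ℤ) * f' + ((2 ^ n' : ℕ) : ℤ) by
          rw [hn]; push_cast; ring, zpow_add, zpow_mul, zpow_natCast, pow_orderOf_eq_one,
          one_zpow, one_mul, zpow_natCast]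
    have hemem := hcentA e (hcen e _ heq hconj a).symm
    exact hgA (by simpa [he] using A.mul_mem hemem (A.inv_mem (hAa ▸ Subgroup.zpow_mem _ (Subgroup.mem_zpowers a) i : a ^ i ∈ A)))
  by_cases htop : A = ⊤
  · refine Or.inl ?_
    rw [htop] at hAcyc
    exact (Subgroup.topEquiv (G := P)).isCyclic.1 hAcyc
  obtain ⟨g, hg⟩ : ∃ g, g ∉ A := by
    by_contra h; push Not at h; exact htop (top_le_iff.1 fun x _ => h x)
  obtain ⟨k, hk⟩ := hact g
  refine Or.inr ⟨a, g, n, k, hn2, hn, ?_, hk, hno g k hk hg⟩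
  rw [← hAa, Subgroup.index_eq_two_iff']
  refine ⟨g, fun b => ?_⟩
  by_cases hb : b ∈ A
  · exact Or.inr ⟨hb, fun h => hg ((Subgroup.mul_mem_cancel_right A hb).1 h)⟩
  · refine Or.inl ⟨by_contra fun hgb => ?_, hb⟩
    obtain ⟨l, hl⟩ := hact b
    have hgl : g * b * a * (g * b)⁻¹ = a ^ (k * l) := by
      rw [show g * b * a * (g * b)⁻¹ = g * (b * a * b⁻¹) * g⁻¹ by group, hl, ← conj_pow, hk, ← pow_mul]
    have := hno _ _ hgl hgb
    rw [Nat.mul_mod, hno g k hk hg, hno b l hl hb] at this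
    norm_num at this

end CfsgLib.CharApps.QBaer
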