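import Cfsg.Agent.Lib.CharApps.QBaer.Eigen

/-!
# An irreducible cyclic `2`-group inverted modulo four acts on a space of dimension at most two
-/

set_option autoImplicit false
set_option linter.style.haveILetI false

namespace CfsgLib.CharApps.QBaer

variable {P V : Type*} [Group P] [Finite P] {q : ℕ} [hq : Fact q.Prime]
  [AddCommGroup V] [Module (ZMod q) V] [Finite V] {ρ : Representation (ZMod q) P V}

theorem card_le_sq (hinj : Function.Injective ρ) {a g : P} {n k : ℕ} (hn : 2 ≤ n)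
    (hirr : Irr ρ (Subgroup.zpowers a : Set P)) (ha : orderOf a = 2 ^ n) (hg : g * a * g⁻¹ = a ^ k)
    (hk : k % 4 = 3) (hidx : (Subgroup.zpowers a).index = 2) : Nat.card V ≤ q ^ 2 := by
  classical
  rcases subsingleton_or_nontrivial V with hV | hV
  · rw [Nat.card_of_subsingleton (0 : V)]; exact Nat.one_le_pow _ _ hq.out.pos
  set T : Module.End (ZMod q) V := ρ a with hT
  set K := Algebra.adjoin (ZMod q) ({T} : Set (Module.End (ZMod q) V)) with hK
  haveI : Finite (Module.End (ZMod q) V) := Finite.of_injective (fun f => (f : V → V)) DFunLike.coe_injective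
  haveI : Finite K := Subtype.finite
  have hTK : T ∈ K := Algebra.subset_adjoin (Set.mem_singleton T)
  have hcomm : ∀ r ∈ K, ∀ i : ℕ, r * T ^ i = T ^ i * r := by
    intro r hr i
    have : Commute (⟨r, hr⟩ : K) ⟨T ^ i, pow_mem hTK i⟩ := Commute.all _ _
    exact congrArg Subtype.val this
  have hdom : ∀ r ∈ K, r ≠ 0 → Function.Injective r := by
    intro r hr hr0
    rcases hirr (LinearMap.ker r) (fun y hy w hw => by
      rw [SetLike.mem_coe, mem_powers_iff_mem_zpowers.symm] at hy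
      obtain ⟨i, rfl⟩ := (Submonoid.mem_powers_iff _ _).1 hy
      rw [LinearMap.mem_ker] at hw ⊢
      rw [map_pow, ← Module.End.mul_apply, ← hT, hcomm r hr i, Module.End.mul_apply, hw, map_zero])
      with h | h
    · exact LinearMap.ker_eq_bot.1 h
    · exact absurd (LinearMap.ker_eq_top.1 h) hr0
  haveI : Nontrivial K := ⟨⟨0, 1, fun h => by
    obtain ⟨v, hv⟩ := exists_ne (0 : V)
    have := congrArg (fun r : K => (r : Module.End (ZMod q) V) v) h
    exact hv (by simpa using this.symm)⟩⟩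
  haveI : NoZeroDivisors K := ⟨fun {x y} hxy => by
    by_contra hcon
    push Not at hcon
    refine hcon.2 (Subtype.ext (LinearMap.ext fun v => ?_))
    refine hdom x x.2 (fun h => hcon.1 (Subtype.ext h)) ?_
    have := congrArg (fun r : K => (r : Module.End (ZMod q) V) v) hxy
    simpa using this⟩
  haveI : IsDomain K := NoZeroDivisors.to_isDomain K
  letI := Fintype.ofFinite K
  letI : Field K := Fintype.fieldOfDomain K
  set τ : K := ⟨T, hTK⟩ with hτ
  have hordT : orderOf τ = 2 ^ n := by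
    rw [← ha, ← orderOf_injective (Subsemiring.subtype K.toSubsemiring).toMonoidHom
      Subtype.val_injective τ]
    exact orderOf_injective (ρ : P →* Module.End (ZMod q) V) hinj a
  -- conjugation by `g`
  let φ : Module.End (ZMod q) V →ₐ[ZMod q] Module.End (ZMod q) V :=
    AlgHom.ofLinearMap
      { toFun := fun r => ρ g * r * ρ g⁻¹
        map_add' := fun r s => by rw [mul_add, add_mul]
        map_smul' := fun c r => by simp [mul_assoc] }
      (by show ρ g * 1 * ρ g⁻¹ = 1; rw [mul_one, ← map_mul, mul_inv_cancel, map_one])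
      (fun r s => by
        show ρ g * (r * s) * ρ g⁻¹ = ρ g * r * ρ g⁻¹ * (ρ g * s * ρ g⁻¹)
        have h1 : ρ g⁻¹ * ρ g = 1 := by rw [← map_mul, inv_mul_cancel, map_one]
        calc ρ g * (r * s) * ρ g⁻¹ = ρ g * r * 1 * s * ρ g⁻¹ := by simp only [mul_one, mul_assoc]
          _ = ρ g * r * (ρ g⁻¹ * ρ g) * s * ρ g⁻¹ := by rw [h1]
          _ = _ := by simp only [mul_assoc])
  have hφT : φ T = T ^ k := by
    show ρ g * ρ a * ρ g⁻¹ = _
    rw [← map_mul, ← map_mul, hg, map_pow]
  have hφK : ∀ r : K, φ r ∈ K := fun r => by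
    have : K.map φ ≤ K := by
      rw [hK, AlgHom.map_adjoin, Set.image_singleton, Algebra.adjoin_le_iff, Set.singleton_subset_iff,
        hφT]
      exact pow_mem (Algebra.subset_adjoin (Set.mem_singleton T)) k
    exact this ⟨r, r.2, rfl⟩
  let σ : K →ₐ[ZMod q] K := (φ.comp K.val).codRestrict K hφK
  obtain ⟨⟨j, hjlt⟩, hj⟩ := (FiniteField.bijective_frobeniusAlgHom_pow (ZMod q) K).2 σ
  have hfrob : ∀ (i : ℕ) (r : K), (FiniteField.frobeniusAlgHom (ZMod q) K ^ i) r = r ^ q ^ i := by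
    intro i
    induction i with
    | zero => intro r; simp
    | succ i ih =>
      intro r
      rw [pow_succ, AlgHom.mul_apply, ih, FiniteField.coe_frobeniusAlgHom, ← pow_mul,
        ZMod.card, ← pow_succ']
  have hjk : τ ^ q ^ j = τ ^ k := by
    rw [← hfrob]
    have : σ τ = τ ^ k := Subtype.ext (by
      show φ T = _
      rw [hφT]; rfl)
    rw [← this, ← hj]
  have hτ0 : τ ≠ 0 := fun h => by
    have := pow_orderOf_eq_one τ
    rw [hordT, h, zero_pow (by positivity)] at this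
    exact zero_ne_one this
  have hmod : q ^ j ≡ k [MOD 2 ^ n] := by
    have hu : (Units.mk0 τ hτ0) ^ (q ^ j) = (Units.mk0 τ hτ0) ^ k := Units.ext (by simpa using hjk)
    rwa [pow_eq_pow_iff_modEq, ← orderOf_units, Units.val_mk0, hordT] at hu
  have h4 : (4 : ℕ) ∣ 2 ^ n := (pow_dvd_pow 2 hn : 2 ^ 2 ∣ 2 ^ n)
  have hjodd : j % 2 = 1 := by
    by_contra hje
    have h1 : q ^ j % 4 = 3 := Eq.trans (hmod.of_dvd h4) hk
    obtain ⟨i, rfl⟩ : ∃ i, j = 2 * i := ⟨j / 2, by omega⟩
    have hqodd : q % 2 = 1 := by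
      by_contra hqe
      rcases Nat.eq_zero_or_pos i with rfl | hi
      · simp at h1
      · have : 2 ∣ q ^ (2 * i) := (show 2 ∣ q by omega).trans (dvd_pow_self q (by omega))
        omega
    rw [pow_mul, Nat.pow_mod, show q ^ 2 % 4 = 1 by
      have : q % 4 = 1 ∨ q % 4 = 3 := by omega
      rw [Nat.pow_mod]; rcases this with h | h <;> rw [h], one_pow] at h1
    norm_num at h1
  -- `q` has order at most two modulo `2 ^ n`
  have hk2 : a ^ (k * k) = a ^ 1 := by
    obtain ⟨i, hi⟩ := Subgroup.mem_zpowers_iff.1 (Subgroup.mul_self_mem_of_index_two hidx g)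
    rw [pow_one, pow_mul, ← hg, conj_pow, ← hg,
      show g * (g * a * g⁻¹) * g⁻¹ = (g * g) * a * (g * g)⁻¹ by group, ← hi]
    group
  rw [pow_eq_pow_iff_modEq, ha] at hk2
  have hq2j : (q : ZMod (2 ^ n)) ^ (2 * j) = 1 := by
    have h1 : ((q ^ j : ℕ) : ZMod (2 ^ n)) = (k : ℕ) := (ZMod.natCast_eq_natCast_iff _ _ _).2 hmod
    have h2 : ((k * k : ℕ) : ZMod (2 ^ n)) = ((1 : ℕ) : ZMod (2 ^ n)) :=
      (ZMod.natCast_eq_natCast_iff _ _ _).2 hk2
    push_cast at h1 h2
    rw [mul_comm, pow_mul, h1, pow_two, h2]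
  haveI : NeZero (2 ^ n) := ⟨by positivity⟩
  have hunit : IsUnit (q : ZMod (2 ^ n)) := IsUnit.of_pow_eq_one hq2j (by omega)
  have hq2n : (q : ZMod (2 ^ n)) ^ (2 ^ (n - 1)) = 1 := by
    obtain ⟨u, hu⟩ := hunit
    have := ZMod.pow_totient u
    rw [Nat.totient_prime_pow Nat.prime_two (by omega), show (2 : ℕ) - 1 = 1 from rfl, mul_one] at this
    rw [← hu, ← Units.val_pow_eq_pow_val, this, Units.val_one]
  have hq2 : (q : ZMod (2 ^ n)) ^ 2 = 1 := by
    have hgcd : Nat.gcd (2 * j) (2 ^ (n - 1)) = 2 := by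
      obtain ⟨n', rfl⟩ : ∃ n', n = n' + 2 := ⟨n - 2, by omega⟩
      rw [show n' + 2 - 1 = n' + 1 from rfl, pow_succ', Nat.gcd_mul_left,
        Nat.Coprime.gcd_eq_one (Nat.Coprime.pow_right _ (Nat.coprime_two_right.2 (Nat.odd_iff.2 hjodd)))]
    simpa [hgcd] using pow_gcd_eq_one.2 ⟨hq2j, hq2n⟩
  have hmod2 : q ^ 2 ≡ 1 [MOD 2 ^ n] := by
    rw [← ZMod.natCast_eq_natCast_iff]; push_cast; exact hq2
  have hτ2 : τ ^ q ^ 2 = τ := by
    conv_rhs => rw [← pow_one τ]
    rw [← pow_mod_orderOf τ (q ^ 2), ← pow_mod_orderOf τ 1, hordT, hmod2]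
  have hfix : ∀ r : K, r ^ q ^ 2 = r := by
    rintro ⟨r, hr⟩
    rw [← hfrob]
    induction hr using Algebra.adjoin_induction with
    | mem x hx =>
      rw [Set.mem_singleton_iff] at hx
      subst hx
      rw [hfrob]; exact hτ2
    | algebraMap c => exact AlgHom.commutes _ c
    | add x y hx hy ihx ihy =>
      have := map_add (FiniteField.frobeniusAlgHom (ZMod q) K ^ 2) ⟨x, hx⟩ ⟨y, hy⟩
      rw [ihx, ihy] at this
      exact this
    | mul x y hx hy ihx ihy =>
      have := map_mul (FiniteField.frobeniusAlgHom (ZMod q) K ^ 2) ⟨x, hx⟩ ⟨y, hy⟩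
      rw [ihx, ihy] at this
      exact this
  have hKcard : Nat.card K ≤ q ^ 2 := by
    have h2q : 1 < q ^ 2 := Nat.one_lt_pow two_ne_zero hq.out.one_lt
    set f : Polynomial K := Polynomial.X ^ q ^ 2 - Polynomial.X with hf
    have hf0 : f ≠ 0 := FiniteField.X_pow_card_sub_X_ne_zero K h2q
    have hsub : (Finset.univ : Finset K) ⊆ f.roots.toFinset := fun r _ => by
      rw [Multiset.mem_toFinset, Polynomial.mem_roots hf0, Polynomial.IsRoot, hf]
      simp [hfix r]
    rw [Nat.card_eq_fintype_card, ← Finset.card_univ]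
    refine (Finset.card_le_card hsub).trans ((Multiset.toFinset_card_le _).trans
      ((Polynomial.card_roots' f).trans ?_))
    rw [hf, FiniteField.X_pow_card_sub_X_natDegree_eq K h2q]
  obtain ⟨v, hv⟩ := exists_ne (0 : V)
  let U : Submodule (ZMod q) V :=
    (Subalgebra.toSubmodule K).map (LinearMap.applyₗ (R := ZMod q) v)
  refine le_trans ?_ hKcard
  refine Nat.card_le_card_of_surjective (fun r : K => (r : Module.End (ZMod q) V) v) fun w => ?_
  rcases hirr U (fun y hy u hu => by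
    obtain ⟨r, hr, rfl⟩ := hu
    rw [SetLike.mem_coe, mem_powers_iff_mem_zpowers.symm] at hy
    obtain ⟨i, rfl⟩ := (Submonoid.mem_powers_iff _ _).1 hy
    refine ⟨T ^ i * r, K.mul_mem (pow_mem hTK i) hr, ?_⟩
    show (T ^ i * r) v = _
    rw [Module.End.mul_apply, hT, ← map_pow]
    rfl) with h | h
  · exfalso
    have : v ∈ U := ⟨1, K.one_mem, rfl⟩
    rw [h, Submodule.mem_bot] at this
    exact hv this
  · obtain ⟨r, hr, hrv⟩ : w ∈ U := h ▸ Submodule.mem_top
    exact ⟨⟨r, hr⟩, hrv⟩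

end CfsgLib.CharApps.QBaer
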