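import Mathlib
import Cfsg.Agent.Lib.FgsB.Basic

/-!
# A `2`-group acting irreducibly, all of whose subgroups of index two act irreducibly
-/

set_option autoImplicit false
set_option linter.style.haveILetI false

namespace CfsgLib.CharApps.QBaer

variable {P V : Type*} [Group P] [Finite P] {q : ℕ} [Fact q.Prime]
  [AddCommGroup V] [Module (ZMod q) V]

/-- A subspace is invariant under `ρ` on the set `S`. -/
def Inv (ρ : Representation (ZMod q) P V) (S : Set P) (U : Submodule (ZMod q) V) : Prop :=
  ∀ g ∈ S, ∀ v ∈ U, ρ g v ∈ U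

/-- Only the trivial subspaces are invariant under `S`. -/
def Irr (ρ : Representation (ZMod q) P V) (S : Set P) : Prop :=
  ∀ U : Submodule (ZMod q) V, Inv ρ S U → U = ⊥ ∨ U = ⊤

/-- The `2`-group `P` and each of its subgroups of index two act irreducibly. -/
def Prim (ρ : Representation (ZMod q) P V) : Prop :=
  Irr ρ Set.univ ∧ ∀ H : Subgroup P, H.index = 2 → Irr ρ (H : Set P)

variable {ρ : Representation (ZMod q) P V}

omit [Finite P] in
/-- An involution commuting with an irreducible set acts as `1` or as `-1`. -/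
theorem eigen {S : Set P} (hirr : Irr ρ S) {z : P} (hz : z * z = 1)
    (hc : ∀ g ∈ S, g * z = z * g) : (∀ v, ρ z v = v) ∨ ∀ v, ρ z v = -v := by
  have hzz : ∀ w, ρ z (ρ z w) = w := fun w => by
    rw [← Module.End.mul_apply, ← map_mul, hz, map_one, Module.End.one_apply]
  let U : Submodule (ZMod q) V :=
    { carrier := {w | ρ z w = -w}
      add_mem' := fun {a b} ha hb => by
        show ρ z (a + b) = -(a + b)
        rw [map_add, show ρ z a = -a from ha, show ρ z b = -b from hb, neg_add]
      zero_mem' := by show ρ z 0 = -0; rw [map_zero, neg_zero]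
      smul_mem' := fun c a ha => by
        show ρ z (c • a) = -(c • a)
        rw [map_smul, show ρ z a = -a from ha, smul_neg] }
  rcases hirr U (fun g hg w hw => by
    show ρ z (ρ g w) = -ρ g w
    rw [← Module.End.mul_apply, ← map_mul, ← hc g hg, map_mul, Module.End.mul_apply,
      show ρ z w = -w from hw, map_neg]) with h | h
  · refine Or.inl fun w => ?_
    have hmem : w - ρ z w ∈ U := by
      show ρ z (w - ρ z w) = -(w - ρ z w)
      rw [map_sub, hzz, neg_sub]
    rw [h, Submodule.mem_bot, sub_eq_zero] at hmem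
    exact hmem.symm
  · refine Or.inr fun v => ?_
    have : v ∈ U := h ▸ Submodule.mem_top
    exact this

/-- An involution with at most two conjugates `e`, `e * z` is central. -/
theorem involution_central (hP : Prim ρ) (hinj : Function.Injective ρ)
    {e : P} (he : e * e = 1) {z : P}
    (hconj : ∀ g, g * e * g⁻¹ = e ∨ g * e * g⁻¹ = e * z) (g : P) : g * e = e * g := by
  classical
  by_contra hg
  set H := Subgroup.centralizer ({e} : Set P) with hH
  have hidx : H.index = 2 := by
    rw [hH, ← CfsgLib.FgsB.ncard_carrier_eq_index]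
    have hle : (ConjClasses.mk e).carrier ⊆ {e, e * z} := by
      intro y hy
      obtain ⟨c, rfl⟩ := isConj_iff.1 (ConjClasses.mk_eq_mk_iff_isConj.1 (ConjClasses.mem_carrier_iff_mk_eq.1 hy).symm)
      exact hconj c
    have h1 := (Set.ncard_le_ncard hle (Set.toFinite _)).trans (Set.ncard_insert_le _ _)
    rw [Set.ncard_singleton] at h1
    have h2 : 0 < (ConjClasses.mk e).carrier.ncard :=
      (Set.ncard_pos (Set.toFinite _)).2 ⟨e, ConjClasses.mem_carrier_mk⟩
    by_contra hne
    have h3 : (ConjClasses.mk e).carrier.ncard = 1 := by omega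
    rw [CfsgLib.FgsB.ncard_carrier_eq_index, Subgroup.index_eq_one] at h3
    exact hg (Subgroup.mem_centralizer_singleton_iff.1 (h3 ▸ Subgroup.mem_top g))
  rcases eigen (hP.2 H hidx) he (fun a ha => Subgroup.mem_centralizer_singleton_iff.1 ha)
    with h | h
  · exact hg (hinj (LinearMap.ext fun v => by simp [h]))
  · exact hg (hinj (LinearMap.ext fun v => by simp [h]))

/-- The central involution is unique. -/
theorem central_involution_unique (hP : Prim ρ) (hinj : Function.Injective ρ)
    {z w : P} (hz : z * z = 1) (hz1 : z ≠ 1) (hzc : ∀ g, g * z = z * g) (hw : w * w = 1)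
    (hw1 : w ≠ 1) (hwc : ∀ g, g * w = w * g) : w = z := by
  have key : ∀ {y : P}, y * y = 1 → y ≠ 1 → (∀ g, g * y = y * g) → ∀ v, ρ y v = -v := by
    intro y hy hy1 hyc
    rcases eigen hP.1 hy (fun g _ => hyc g) with h | h
    · exact absurd (hinj (LinearMap.ext fun v => by simp [h])) hy1
    · exact h
  exact hinj (LinearMap.ext fun v => by rw [key hz hz1 hzc, key hw hw1 hwc])

end CfsgLib.CharApps.QBaer
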