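import Cfsg.Agent.Lib.CharApps.QBaer.Cyclic
import Cfsg.Agent.Lib.CharApps.QBaer.DimTwo
import Cfsg.Agent.Lib.CharApps.Kazarin
import Cfsg.Agent.Lib.SolvStruct.KegelWielandt.General
import Cfsg.Agent.Lib.FT.OddOrderTheorem

/-!
# Linear groups of order prime to `q` whose orbits are orbits of a Sylow `2`-subgroup are solvable
-/

set_option autoImplicit false
set_option linter.style.haveILetI false

namespace CfsgLib.CharApps.QBaer

universe u v

variable {q : ℕ} [hq : Fact q.Prime]

/-- Every orbit of `X` is an orbit of `P`. -/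
def Covered {X : Type u} [Group X] {V : Type v} [AddCommGroup V] [Module (ZMod q) V]
    (ρ : Representation (ZMod q) X V) (P : Subgroup X) : Prop :=
  ∀ (x : X) (v : V), ∃ g ∈ P, ρ g v = ρ x v

/-- The conclusion for spaces of order less than `N`. -/
def Below (q : ℕ) [Fact q.Prime] (N : ℕ) : Prop :=
  ∀ (V : Type v) [AddCommGroup V] [Module (ZMod q) V] [Finite V], Nat.card V < N →
    ∀ (X : Type u) [Group X] [Finite X] (ρ : Representation (ZMod q) X V), Function.Injective ρ →
      ¬ q ∣ Nat.card X → ∀ P : Sylow 2 X, Covered ρ (P : Subgroup X) → Group.IsSolvable X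

variable {X : Type u} [Group X] [Finite X] {V : Type v} [AddCommGroup V] [Module (ZMod q) V]
  [Finite V] {ρ : Representation (ZMod q) X V}

omit [Finite X] [Finite V] in
theorem rho_inv_apply (g : X) (v : V) : ρ g⁻¹ (ρ g v) = v := by
  rw [← Module.End.mul_apply, ← map_mul, inv_mul_cancel, map_one, Module.End.one_apply]

omit [Finite X] [Finite V] in
theorem rho_apply_inv (g : X) (v : V) : ρ g (ρ g⁻¹ v) = v := by
  rw [← Module.End.mul_apply, ← map_mul, mul_inv_cancel, map_one, Module.End.one_apply]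

omit [Finite X] [Finite V] in
/-- A `P`-invariant subspace is invariant. -/
theorem inv_of_covered {P : Subgroup X} (hcov : Covered ρ P) {U : Submodule (ZMod q) V}
    (hU : ∀ g ∈ P, ∀ v ∈ U, ρ g v ∈ U) (x : X) (v : V) (hv : v ∈ U) : ρ x v ∈ U := by
  obtain ⟨g, hg, hgv⟩ := hcov x v
  exact hgv ▸ hU g hg v hv

omit [Finite X] in
theorem map_eq_self {g : X} {U : Submodule (ZMod q) V} (h : ∀ v ∈ U, ρ g v ∈ U) :
    U.map (ρ g) = U := by
  have hle : U.map (ρ g) ≤ U := by rintro _ ⟨v, hv, rfl⟩; exact h v hv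
  refine SetLike.coe_injective (Set.eq_of_subset_of_ncard_le hle ?_ (Set.toFinite _))
  rw [Submodule.map_coe, Set.ncard_image_of_injective]
  intro a b hab
  simpa [rho_inv_apply] using congrArg (ρ g⁻¹) hab

/-- The representation on an invariant subspace. -/
def subRep (ρ : Representation (ZMod q) X V) (U : Submodule (ZMod q) V)
    (hU : ∀ x : X, ∀ v ∈ U, ρ x v ∈ U) : Representation (ZMod q) X U where
  toFun x := (ρ x).restrict (hU x)
  map_one' := LinearMap.ext fun v => Subtype.ext (by simp [LinearMap.restrict_apply])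
  map_mul' x y := LinearMap.ext fun v => Subtype.ext (by simp [LinearMap.restrict_apply])

omit [Finite X] [Finite V] in
theorem subRep_apply (ρ : Representation (ZMod q) X V) (U : Submodule (ZMod q) V)
    (hU : ∀ x : X, ∀ v ∈ U, ρ x v ∈ U) (x : X) (v : U) : ((subRep ρ U hU x) v : V) = ρ x v :=
  rfl

/-- A faithful quotient of a covered representation is solvable by induction. -/
theorem solvable_quotient {N : ℕ} (hbel : Below.{u, v} q N) {U : Type v} [AddCommGroup U]
    [Module (ZMod q) U] [Finite U] (hlt : Nat.card U < N) (σ : Representation (ZMod q) X U)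
    (hqX : ¬ q ∣ Nat.card X) (P : Sylow 2 X) (hcov : Covered σ (P : Subgroup X)) :
    Group.IsSolvable (X ⧸ MonoidHom.ker σ) := by
  haveI := Fact.mk Nat.prime_two
  have hX : ¬ q ∣ Nat.card (X ⧸ MonoidHom.ker σ) :=
    fun h => hqX (h.trans (Subgroup.card_quotient_dvd_card _))
  let τ : Representation (ZMod q) (X ⧸ MonoidHom.ker σ) U :=
    QuotientGroup.lift (MonoidHom.ker σ) σ le_rfl
  have hτ : Function.Injective τ := by
    intro a b
    obtain ⟨a, rfl⟩ := QuotientGroup.mk'_surjective (MonoidHom.ker σ) a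
    obtain ⟨b, rfl⟩ := QuotientGroup.mk'_surjective (MonoidHom.ker σ) b
    intro (hab : σ a = σ b)
    refine (QuotientGroup.eq (s := MonoidHom.ker σ)).2 (MonoidHom.mem_ker.2 ?_)
    rw [map_mul, ← hab, ← map_mul, inv_mul_cancel, map_one]
  refine hbel U hlt _ τ hτ hX
    (P.mapSurjective (QuotientGroup.mk'_surjective (MonoidHom.ker σ))) ?_
  intro x v
  obtain ⟨x, rfl⟩ := QuotientGroup.mk'_surjective (MonoidHom.ker σ) x
  obtain ⟨g, hg, hgv⟩ := hcov x v
  refine ⟨QuotientGroup.mk' (MonoidHom.ker σ) g, ?_, hgv⟩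
  rw [Sylow.coe_mapSurjective]
  exact Subgroup.mem_map_of_mem _ hg

/-- The group induced on an invariant subspace of smaller order is solvable. -/
theorem solvable_restrict {N : ℕ} (hbel : Below.{u, v} q N) (ρ : Representation (ZMod q) X V)
    (hqX : ¬ q ∣ Nat.card X) (P : Sylow 2 X) (hcov : Covered ρ (P : Subgroup X))
    (U : Submodule (ZMod q) V) (hU : ∀ x : X, ∀ v ∈ U, ρ x v ∈ U) (hlt : Nat.card U < N) :
    ∃ σ : Representation (ZMod q) X U, (∀ x (v : U), ((σ x) v : V) = ρ x v) ∧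
      Group.IsSolvable (X ⧸ MonoidHom.ker σ) := by
  refine ⟨subRep ρ U hU, subRep_apply ρ U hU, solvable_quotient hbel hlt _ hqX P fun x v => ?_⟩
  obtain ⟨g, hg, hgv⟩ := hcov x v
  exact ⟨g, hg, Subtype.ext (by rw [subRep_apply, subRep_apply]; exact hgv)⟩

/-- Two complementary invariant subspaces. -/
theorem solvable_of_two {N : ℕ} (hbel : Below.{u, v} q N) (ρ : Representation (ZMod q) X V)
    (hinj : Function.Injective ρ) (hqX : ¬ q ∣ Nat.card X) (P : Sylow 2 X)
    (hcov : Covered ρ (P : Subgroup X)) (U W : Submodule (ZMod q) V)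
    (hU : ∀ x : X, ∀ v ∈ U, ρ x v ∈ U) (hW : ∀ x : X, ∀ v ∈ W, ρ x v ∈ W) (htop : U ⊔ W = ⊤)
    (hUlt : Nat.card U < N) (hWlt : Nat.card W < N) : Group.IsSolvable X := by
  obtain ⟨σ, hσ, h1⟩ := solvable_restrict hbel ρ hqX P hcov U hU hUlt
  obtain ⟨τ, hτ, h2⟩ := solvable_restrict hbel ρ hqX P hcov W hW hWlt
  haveI := h1
  haveI := h2
  refine Group.isSolvable_of_isSolvable_injective
    (f := (QuotientGroup.mk' (MonoidHom.ker σ)).prod
      (QuotientGroup.mk' (MonoidHom.ker τ))) ?_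
  rw [← MonoidHom.ker_eq_bot_iff, MonoidHom.ker_prod, QuotientGroup.ker_mk', QuotientGroup.ker_mk',
    eq_bot_iff]
  rintro x ⟨hxU, hxW⟩
  refine Subgroup.mem_bot.2 (hinj ?_)
  rw [map_one]
  refine LinearMap.ext fun v => ?_
  obtain ⟨u, hu, w, hw, rfl⟩ := Submodule.mem_sup.1 (htop ▸ Submodule.mem_top : v ∈ U ⊔ W)
  have e1 : ρ x u = u := by
    have := congrArg (fun f : Module.End (ZMod q) U => (f ⟨u, hu⟩ : V)) (MonoidHom.mem_ker.1 hxU)
    simpa [hσ] using this
  have e2 : ρ x w = w := by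
    have := congrArg (fun f : Module.End (ZMod q) W => (f ⟨w, hw⟩ : V)) (MonoidHom.mem_ker.1 hxW)
    simpa [hτ] using this
  rw [map_add, e1, e2, Module.End.one_apply]

omit [Finite X] in
theorem card_submodule_lt {U : Submodule (ZMod q) V} (h : U ≠ ⊤) : Nat.card U < Nat.card V := by
  refine lt_of_le_of_ne (Nat.card_le_card_of_injective _ Subtype.val_injective) fun he => h ?_
  have hb : Function.Bijective (Subtype.val : U → V) :=
    (Nat.bijective_iff_injective_and_card _).2 ⟨Subtype.val_injective, he⟩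
  exact Submodule.eq_top_iff'.2 fun v => by obtain ⟨u, rfl⟩ := hb.2 v; exact u.2

/-- The case of a reducible `P`. -/
theorem solvable_reducible (hbel : Below.{u, v} q (Nat.card V)) (hinj : Function.Injective ρ)
    (hqX : ¬ q ∣ Nat.card X) (P : Sylow 2 X) (hcov : Covered ρ (P : Subgroup X))
    (U : Submodule (ZMod q) V) (hU : ∀ g ∈ (P : Subgroup X), ∀ v ∈ U, ρ g v ∈ U)
    (hb : U ≠ ⊥) (ht : U ≠ ⊤) : Group.IsSolvable X := by
  haveI : NeZero (Nat.card X : ZMod q) := ⟨fun h => hqX ((ZMod.natCast_eq_zero_iff _ _).1 h)⟩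
  have hUX : ∀ x : X, ∀ v ∈ U, ρ x v ∈ U := inv_of_covered hcov hU
  obtain ⟨W, hW⟩ := exists_isCompl (⟨U, fun g v hv => hUX g v hv⟩ : Subrepresentation ρ)
  have hsup : U ⊔ W.toSubmodule = ⊤ := congrArg Subrepresentation.toSubmodule hW.sup_eq_top
  have hinf : U ⊓ W.toSubmodule = ⊥ := congrArg Subrepresentation.toSubmodule hW.inf_eq_bot
  refine solvable_of_two hbel ρ hinj hqX P hcov U W.toSubmodule hUX
    (fun g v hv => W.apply_mem_toSubmodule g hv) hsup (card_submodule_lt ht) (card_submodule_lt ?_)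
  intro h
  rw [h, inf_top_eq] at hinf
  exact hb hinf

/-- The imprimitive case. -/
theorem solvable_imprimitive (hbel : Below.{u, v} q (Nat.card V)) (hinj : Function.Injective ρ)
    (hqX : ¬ q ∣ Nat.card X) (P : Sylow 2 X) (hcov : Covered ρ (P : Subgroup X))
    (hirr : ∀ U : Submodule (ZMod q) V, (∀ g ∈ (P : Subgroup X), ∀ v ∈ U, ρ g v ∈ U) → U = ⊥ ∨ U = ⊤)
    (H : Subgroup (P : Subgroup X)) (hH : H.index = 2) (U₀ : Submodule (ZMod q) V)
    (hU₀ : ∀ g ∈ H, ∀ v ∈ U₀, ρ (g : X) v ∈ U₀) (hb : U₀ ≠ ⊥) (ht : U₀ ≠ ⊤) :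
    Group.IsSolvable X := by
  classical
  haveI := Fact.mk Nat.prime_two
  obtain ⟨g, hg⟩ : ∃ g : (P : Subgroup X), g ∉ H := by
    by_contra h; push Not at h
    rw [show H = ⊤ from top_le_iff.1 fun x _ => h x, Subgroup.index_top] at hH
    omega
  set W := U₀.map (ρ (g : X)) with hW
  haveI := Subgroup.normal_of_index_eq_two hH
  have hWH : ∀ h ∈ H, ∀ v ∈ W, ρ (h : X) v ∈ W := by
    rintro h hh _ ⟨v, hv, rfl⟩
    refine ⟨ρ ((g⁻¹ * h * g : (P : Subgroup X)) : X) v, hU₀ _ ?_ v hv, ?_⟩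
    · simpa using (inferInstance : H.Normal).conj_mem h hh g⁻¹
    · rw [Subgroup.coe_mul, Subgroup.coe_mul, Subgroup.coe_inv, ← Module.End.mul_apply, ← map_mul,
        ← Module.End.mul_apply (ρ (h : X)), ← map_mul]
      congr 2; group
  have hgW : ∀ v ∈ W, ρ (g : X) v ∈ U₀ := by
    rintro _ ⟨v, hv, rfl⟩
    rw [← Module.End.mul_apply, ← map_mul]
    exact hU₀ (g * g) (Subgroup.mul_self_mem_of_index_two hH g) v hv
  have hdec : ∀ y : (P : Subgroup X), y ∈ H ∨ ∃ h ∈ H, y = g * h := fun y => by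
    by_cases hy : y ∈ H
    · exact Or.inl hy
    · refine Or.inr ⟨g⁻¹ * y, ?_, by group⟩
      have := (Subgroup.mul_mem_iff_of_index_two hH (a := g⁻¹) (b := y)).2
        (iff_of_false (fun h => hg (by simpa using H.inv_mem h)) hy)
      exact this
  have hswap : ∀ y ∈ (P : Subgroup X), ((∀ v ∈ U₀, ρ y v ∈ U₀) ∧ (∀ v ∈ W, ρ y v ∈ W)) ∨
      ((∀ v ∈ U₀, ρ y v ∈ W) ∧ (∀ v ∈ W, ρ y v ∈ U₀)) := by
    intro y hy
    rcases hdec ⟨y, hy⟩ with h | ⟨h, hh, he⟩
    · exact Or.inl ⟨fun v hv => hU₀ _ h v hv, fun v hv => hWH _ h v hv⟩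
    · have he' : y = (g : X) * (h : X) := congrArg Subtype.val he
      subst he'
      refine Or.inr ⟨fun v hv => ?_, fun v hv => ?_⟩
      · rw [map_mul, Module.End.mul_apply]; exact ⟨_, hU₀ h hh v hv, rfl⟩
      · rw [map_mul, Module.End.mul_apply]; exact hgW _ (hWH h hh v hv)
  have hsum : U₀ ⊔ W = ⊤ := by
    refine (hirr (U₀ ⊔ W) fun y hy v hv => ?_).resolve_left fun h => hb (le_bot_iff.1 (le_sup_left.trans_eq h))
    obtain ⟨a, ha, b, hb', rfl⟩ := Submodule.mem_sup.1 hv
    rw [map_add]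
    rcases hswap y hy with ⟨h1, h2⟩ | ⟨h1, h2⟩
    · exact Submodule.add_mem_sup (h1 a ha) (h2 b hb')
    · rw [add_comm]; exact Submodule.add_mem_sup (h2 b hb') (h1 a ha)
  have hWtop : W ≠ ⊤ := fun h => ht (Submodule.eq_top_iff'.2 fun v => by
    obtain ⟨u, hu, huv⟩ : ρ (g : X) v ∈ W := h ▸ Submodule.mem_top
    have := congrArg (ρ (g : X)⁻¹) huv
    rw [rho_inv_apply, rho_inv_apply] at this
    exact this ▸ hu)
  have hne : ∀ x : X, (∀ v ∈ U₀, ρ x v ∈ U₀) ∨ (∀ v ∈ U₀, ρ x v ∈ W) := by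
    intro x
    by_contra hcon
    push Not at hcon
    obtain ⟨⟨a, ha, ha'⟩, b, hb', hb''⟩ := hcon
    have hcase : ∀ v ∈ U₀, ρ x v ∈ U₀ ∨ ρ x v ∈ W := by
      intro v hv
      obtain ⟨y, hy, hyv⟩ := hcov x v
      rw [← hyv]
      rcases hswap y hy with ⟨h1, -⟩ | ⟨h1, -⟩
      · exact Or.inl (h1 v hv)
      · exact Or.inr (h1 v hv)
    have haW := (hcase a ha).resolve_left ha'
    have hbU := (hcase b hb').resolve_right hb''
    rcases hcase (a + b) (add_mem ha hb') with h | h <;> rw [map_add] at h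
    · exact ha' (by simpa using sub_mem h hbU)
    · exact hb'' (by simpa using sub_mem h haW)
  -- the stabilizer of `U₀`
  let X₁ : Subgroup X :=
    { carrier := {x | ∀ v ∈ U₀, ρ x v ∈ U₀}
      one_mem' := fun v hv => by rw [map_one, Module.End.one_apply]; exact hv
      mul_mem' := fun {x y} hx hy v hv => by rw [map_mul, Module.End.mul_apply]; exact hx _ (hy v hv)
      inv_mem' := fun {x} hx v hv => by
        obtain ⟨u, hu, rfl⟩ : v ∈ U₀.map (ρ x) := by rw [map_eq_self hx]; exact hv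
        rw [rho_inv_apply]; exact hu }
  have hgx : ∀ v ∈ U₀, ρ (g : X) v ∈ W := fun v hv => ⟨v, hv, rfl⟩
  have hdecX : ∀ x : X, x ∈ X₁ ∨ (g : X)⁻¹ * x ∈ X₁ := by
    intro x
    rcases hne x with h | h
    · exact Or.inl h
    · refine Or.inr fun v hv => ?_
      obtain ⟨u, hu, huv⟩ := h v hv
      rw [map_mul, Module.End.mul_apply, ← huv, rho_inv_apply]
      exact hu
  have hgX : (g : X) ∉ X₁ := by
    intro h
    have hW' : W = U₀ := map_eq_self h
    rw [hW', sup_idem] at hsum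
    exact ht hsum
  have hidx : X₁.index = 2 := by
    rw [Subgroup.index_eq_two_iff']
    refine ⟨(g : X)⁻¹, fun x => ?_⟩
    rcases hdecX x with h | h
    · exact Or.inr ⟨h, fun h' => hgX (by simpa using X₁.inv_mem ((X₁.mul_mem_cancel_right h).1 h'))⟩
    · exact Or.inl ⟨h, fun h' => hgX (by simpa using X₁.inv_mem ((X₁.mul_mem_cancel_right h').1 h))⟩
  haveI := Subgroup.normal_of_index_eq_two hidx
  have hinvW : ∀ x ∈ X₁, ∀ v ∈ W, ρ x v ∈ W := by
    rintro x hx _ ⟨v, hv, rfl⟩
    refine ⟨ρ ((g : X)⁻¹ * x * (g : X)) v, (show (g : X)⁻¹ * x * (g : X) ∈ X₁ by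
      simpa using (inferInstance : X₁.Normal).conj_mem x hx (g : X)⁻¹) v hv, ?_⟩
    rw [← Module.End.mul_apply, ← map_mul, ← Module.End.mul_apply (ρ x), ← map_mul]
    congr 2; group
  -- a Sylow subgroup of the stabilizer
  set P₁ := (P : Subgroup X).subgroupOf X₁ with hP₁
  have hP₁p : IsPGroup 2 P₁ := P.isPGroup'.comap_subtype
  have hP₁i : ¬ 2 ∣ P₁.index := fun h =>
    P.not_dvd_index (h.trans (CfsgLib.CharApps.Kazarin.relIndex_dvd_index (P : Subgroup X) X₁))
  have hq1 : ¬ q ∣ Nat.card X₁ := fun h => hqX (h.trans (Subgroup.card_subgroup_dvd_card X₁))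
  have hU0W : U₀ ⊓ W = ⊥ := by
    refine (hirr (U₀ ⊓ W) fun y hy v hv => ?_).resolve_right fun h => ht (top_le_iff.1 (h ▸ inf_le_left))
    rcases hswap y hy with ⟨h1, h2⟩ | ⟨h1, h2⟩
    · exact ⟨h1 v hv.1, h2 v hv.2⟩
    · exact ⟨h2 v hv.2, h1 v hv.1⟩
  haveI : Group.IsSolvable X₁ := by
    let Q : Sylow 2 X₁ := hP₁p.toSylow hP₁i
    obtain ⟨σ, hσ, h1⟩ : ∃ σ : Representation (ZMod q) X₁ U₀, (∀ x (v : U₀), ((σ x) v : V) = ρ (x : X) v) ∧
        Group.IsSolvable (X₁ ⧸ (MonoidHom.ker σ)) := by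
      let σ : Representation (ZMod q) X₁ U₀ :=
        { toFun := fun x => (ρ (x : X)).restrict x.2
          map_one' := LinearMap.ext fun v => Subtype.ext (by simp [LinearMap.restrict_apply])
          map_mul' := fun x y => LinearMap.ext fun v => Subtype.ext (by simp [LinearMap.restrict_apply]) }
      have hcov' : Covered σ (Q : Subgroup X₁) := by
        intro x v
        by_cases hv0 : v = 0
        · exact ⟨1, one_mem _, by simp [hv0]⟩
        obtain ⟨y, hy, hyv⟩ := hcov x v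
        refine ⟨⟨y, ?_⟩, hy, Subtype.ext hyv⟩
        by_contra hy1
        have hmem : ρ y (v : V) ∈ U₀ ⊓ W := ⟨hyv ▸ x.2 v v.2, by
          obtain ⟨h1, -⟩ | ⟨h1, -⟩ := hswap y hy
          · exact absurd h1 hy1
          · exact h1 v v.2⟩
        rw [hU0W, Submodule.mem_bot] at hmem
        exact hv0 (Subtype.ext (by simpa [rho_inv_apply] using congrArg (ρ y⁻¹) hmem))
      exact ⟨σ, fun x v => rfl, solvable_quotient hbel (card_submodule_lt ht) σ hq1 Q hcov'⟩
    -- the other block is conjugate to the first one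
    haveI := h1
    let c : X₁ ≃* X₁ := MulAut.conjNormal (g : X)⁻¹
    refine Group.isSolvable_of_isSolvable_injective
      (f := (QuotientGroup.mk' (MonoidHom.ker σ)).prod
        ((QuotientGroup.mk' (MonoidHom.ker σ)).comp c.toMonoidHom)) ?_
    rw [← MonoidHom.ker_eq_bot_iff, MonoidHom.ker_prod, QuotientGroup.ker_mk', eq_bot_iff]
    rintro x ⟨hx, hx'⟩
    replace hx' : QuotientGroup.mk' (MonoidHom.ker σ) (c x) = 1 := hx'
    rw [QuotientGroup.mk'_apply, QuotientGroup.eq_one_iff] at hx'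
    refine Subgroup.mem_bot.2 (Subtype.ext (hinj ?_))
    rw [Subgroup.coe_one, map_one]
    have e1 : ∀ u ∈ U₀, ρ (x : X) u = u := fun u hu => by
      have := congrArg (fun f : Module.End (ZMod q) U₀ => (f ⟨u, hu⟩ : V)) (MonoidHom.mem_ker.1 hx)
      simpa [hσ] using this
    have e2 : ∀ w ∈ W, ρ (x : X) w = w := by
      rintro _ ⟨u, hu, rfl⟩
      have h0 := congrArg (fun f : Module.End (ZMod q) U₀ => (f ⟨u, hu⟩ : V)) (MonoidHom.mem_ker.1 hx')
      simp [hσ, c, MulAut.conjNormal_apply] at h0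
      have h1 := congrArg (ρ (g : X)) h0
      rwa [rho_apply_inv] at h1
    refine LinearMap.ext fun v => ?_
    obtain ⟨u, hu, w, hw, rfl⟩ := Submodule.mem_sup.1 (hsum ▸ Submodule.mem_top : v ∈ U₀ ⊔ W)
    rw [map_add, e1 u hu, e2 w hw, Module.End.one_apply]
  haveI : Group.IsSolvable (X ⧸ X₁) := by
    haveI := Fact.mk Nat.prime_two
    have hc : Nat.card (X ⧸ X₁) = 2 := hidx
    haveI := isCyclic_of_prime_card hc
    exact Group.isSolvable_of_comm fun a b => (IsCyclic.commGroup (α := X ⧸ X₁)).mul_comm a b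
  exact (Group.isSolvable_iff_subgroup_quotient X₁).2 ⟨inferInstance, inferInstance⟩

omit [Finite X] in
/-- Two elements fixing a vector of a space of order at most `q ^ 2` commute. -/
theorem fix_comm (hinj : Function.Injective ρ) (hqX : ¬ q ∣ Nat.card X) (hV : Nat.card V ≤ q ^ 2)
    {v : V} (hv : v ≠ 0) {c d : X} (hc : ρ c v = v) (hd : ρ d v = v) : c * d = d * c := by
  set u := c * d * c⁻¹ * d⁻¹ with hu
  suffices u = 1 by
    rwa [hu, mul_inv_eq_one, mul_inv_eq_iff_eq_mul] at this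
  set S := Submodule.span (ZMod q) ({v} : Set V) with hS
  have hfixS : ∀ x : X, ρ x v = v → ∀ s ∈ S, ρ x s = s := by
    intro x hx s hs
    obtain ⟨t, rfl⟩ := Submodule.mem_span_singleton.1 hs
    rw [map_smul, hx]
  have hinv : ∀ x : X, ρ x v = v → ρ x⁻¹ v = v := fun x hx => by
    conv_lhs => rw [← hx]
    exact rho_inv_apply x v
  by_cases hSt : S = ⊤
  · refine hinj (LinearMap.ext fun w => ?_)
    rw [map_one, Module.End.one_apply]
    refine hfixS u ?_ w (hSt ▸ Submodule.mem_top)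
    simp only [hu, map_mul, Module.End.mul_apply, hinv d hd, hinv c hc, hd, hc]
  obtain ⟨w, hw⟩ : ∃ w, w ∉ S := by
    by_contra h; push Not at h; exact hSt (Submodule.eq_top_iff'.2 h)
  have hspan : S ⊔ Submodule.span (ZMod q) {w} = ⊤ := by
    haveI : Module.Finite (ZMod q) V := Module.Finite.of_finite
    apply Submodule.eq_top_of_finrank_eq
    have hfin : Module.finrank (ZMod q) V ≤ 2 := by
      have h := Module.natCard_eq_pow_finrank (K := ZMod q) (V := V)
      rw [Nat.card_zmod] at h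
      rw [h] at hV
      exact (Nat.pow_le_pow_iff_right hq.out.one_lt).1 hV
    have hlt : S < S ⊔ Submodule.span (ZMod q) {w} :=
      lt_of_le_of_ne le_sup_left fun h => hw (h ▸ Submodule.mem_sup_right (Submodule.mem_span_singleton_self w))
    have h1 := Submodule.finrank_lt_finrank_of_lt hlt
    have h2 : Module.finrank (ZMod q) S = 1 := finrank_span_singleton hv
    have h3 := Submodule.finrank_le (S ⊔ Submodule.span (ZMod q) {w})
    omega
  have hscal : ∀ x : X, ρ x v = v → ∃ (t : ZMod q) (s : V), s ∈ S ∧ ρ x w = t • w + s := by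
    intro x _
    obtain ⟨s, hs, r, hr, hsr⟩ := Submodule.mem_sup.1 (hspan ▸ Submodule.mem_top : ρ x w ∈ S ⊔ _)
    obtain ⟨t, rfl⟩ := Submodule.mem_span_singleton.1 hr
    exact ⟨t, s, hs, by rw [← hsr, add_comm]⟩
  obtain ⟨t, s, hs, hcw⟩ := hscal c hc
  obtain ⟨t', s', hs', hdw⟩ := hscal d hd
  -- `c * d` and `d * c` agree modulo `S`
  have huw : ρ u w - w ∈ S ∧ ρ u v = v := by
    refine ⟨?_, by simp only [hu, map_mul, Module.End.mul_apply, hinv d hd, hinv c hc, hd, hc]⟩
    have hw' : w = ρ (d * c) (ρ ((d * c)⁻¹) w) := (rho_apply_inv _ _).symm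
    set w₀ := ρ ((d * c)⁻¹) w with hw₀
    have hu' : ρ u w = ρ (c * d) w₀ := by
      rw [hw₀, ← Module.End.mul_apply, ← map_mul, hu, mul_inv_rev]
      congr 2; group
    obtain ⟨a, ha, b, hb, hab⟩ := Submodule.mem_sup.1 (hspan ▸ Submodule.mem_top : w₀ ∈ S ⊔ _)
    obtain ⟨r, rfl⟩ := Submodule.mem_span_singleton.1 hb
    rw [hu', hw', ← hab]
    simp only [map_mul, Module.End.mul_apply, map_add, map_smul, hcw, hdw, hfixS c hc a ha,
      hfixS d hd a ha, hfixS c hc s' hs', hfixS d hd s hs]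
    have : a + r • (t' • (t • w + s) + s') - (a + r • (t • (t' • w + s') + s)) =
        (r * t' - r) • s + (r - r * t) • s' := by
      module
    rw [this]
    exact add_mem (S.smul_mem _ hs) (S.smul_mem _ hs')
  obtain ⟨huS, huv⟩ := huw
  set β := ρ u w - w with hβ
  have hpow : ∀ i : ℕ, ρ (u ^ i) w = w + i • β := by
    intro i
    induction i with
    | zero => simp
    | succ i ih =>
      rw [pow_succ', map_mul, Module.End.mul_apply, ih, map_add, map_nsmul, hfixS u huv β huS,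
        succ_nsmul, hβ]
      abel
  have hfix : ∀ x : X, ρ x v = v → ρ x w = w → x = 1 := by
    intro x hxv hxw
    refine hinj (LinearMap.ext fun y => ?_)
    obtain ⟨a, ha, b, hb, rfl⟩ := Submodule.mem_sup.1 (hspan ▸ Submodule.mem_top : y ∈ S ⊔ _)
    obtain ⟨r, rfl⟩ := Submodule.mem_span_singleton.1 hb
    rw [map_one, Module.End.one_apply, map_add, map_smul, hfixS x hxv a ha, hxw]
  have huq : u ^ q = 1 := by
    refine hfix _ ?_ ?_
    · exact Function.iterate_fixed (f := ρ u) huv q |> fun h => by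
        rw [map_pow, Module.End.pow_apply]; exact h
    · rw [hpow q, ← Nat.cast_smul_eq_nsmul (ZMod q) q β, ZMod.natCast_self, zero_smul, add_zero]
  by_contra hne
  exact hqX ((orderOf_eq_prime huq hne) ▸ orderOf_dvd_natCard u)

/-- The primitive case. -/
theorem solvable_primitive (hinj : Function.Injective ρ) (hqX : ¬ q ∣ Nat.card X) (P : Sylow 2 X)
    (hcov : Covered ρ (P : Subgroup X))
    (hirr : ∀ U : Submodule (ZMod q) V, (∀ g ∈ (P : Subgroup X), ∀ v ∈ U, ρ g v ∈ U) → U = ⊥ ∨ U = ⊤)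
    (hprim : ∀ H : Subgroup (P : Subgroup X), H.index = 2 → ∀ U : Submodule (ZMod q) V,
      (∀ g ∈ H, ∀ v ∈ U, ρ (g : X) v ∈ U) → U = ⊥ ∨ U = ⊤) : Group.IsSolvable X := by
  haveI := Fact.mk Nat.prime_two
  let σ : Representation (ZMod q) (P : Subgroup X) V := ρ.comp (P : Subgroup X).subtype
  have hσinj : Function.Injective σ := hinj.comp Subtype.val_injective
  have hP : Prim σ := ⟨fun U hU => hirr U fun g hg v hv => hU ⟨g, hg⟩ (Set.mem_univ _) v hv,
    fun H hH U hU => hprim H hH U fun g hg v hv => hU g hg v hv⟩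
  rcases cyclic_or_index_two P.isPGroup' (fun _ _ h1 h2 h3 h4 h5 h6 =>
      central_involution_unique hP hσinj h1 h2 h3 h4 h5 h6)
    (fun _ _ he hc g => involution_central hP hσinj he hc g) with hcyc | ⟨a, g, n, k, hn, ha, hidx, hg, hk⟩
  · by_cases h2 : 2 ∣ Nat.card X
    · have hmin : (Nat.card X).minFac = 2 := (Nat.minFac_eq_two_iff _).2 h2
      have hc := IsCyclic.isComplement' (P := P) hmin hcyc
      set K := (MonoidHom.transferSylow P (IsCyclic.normalizer_le_centralizer hmin hcyc)).ker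
      haveI : Group.IsSolvable K := CfsgLib.FT.isSolvable_of_odd
        (Nat.not_even_iff_odd.1 fun h => (MonoidHom.not_dvd_card_ker_transferSylow P
          (IsCyclic.normalizer_le_centralizer hmin hcyc)) (even_iff_two_dvd.1 h))
      haveI : Group.IsSolvable (X ⧸ K) := by
        haveI : Group.IsNilpotent (P : Subgroup X) := P.isPGroup'.isNilpotent
        refine Group.isSolvable_of_surjective
          (f := (QuotientGroup.mk' K).comp (P : Subgroup X).subtype) fun y => ?_
        obtain ⟨y, rfl⟩ := QuotientGroup.mk'_surjective K y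
        obtain ⟨⟨k, p⟩, hkp, -⟩ := hc.existsUnique y
        refine ⟨p, ?_⟩
        simp only at hkp
        rw [← hkp, MonoidHom.comp_apply, map_mul, (QuotientGroup.eq_one_iff (N := K) (k : X)).2 k.2 |> fun h => (show QuotientGroup.mk' K (k : X) = 1 from h), one_mul]
        rfl
      exact (Group.isSolvable_iff_subgroup_quotient K).2 ⟨inferInstance, inferInstance⟩
    · exact CfsgLib.FT.isSolvable_of_odd (Nat.not_even_iff_odd.1 fun h => h2 (even_iff_two_dvd.1 h))
  rcases subsingleton_or_nontrivial V with hV | hV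
  · have : ∀ x : X, x = 1 := fun x => hinj (LinearMap.ext fun v => Subsingleton.elim _ _)
    exact Group.isSolvable_of_comm fun a b => by rw [this a, this b]
  have hirrA := hP.2 _ hidx
  have hcard := card_le_sq hσinj hn hirrA ha hg hk hidx
  obtain ⟨v, hv⟩ := exists_ne (0 : V)
  let C : Subgroup X :=
    { carrier := {x | ρ x v = v}
      one_mem' := by simp
      mul_mem' := fun {x y} hx hy => by
        show ρ (x * y) v = v
        rw [map_mul, Module.End.mul_apply, show ρ y v = v from hy, show ρ x v = v from hx]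
      inv_mem' := fun {x} hx => by
        show ρ x⁻¹ v = v
        conv_lhs => rw [← (show ρ x v = v from hx)]
        exact rho_inv_apply x v }
  have hCc : ∀ c d : C, c * d = d * c := fun c d =>
    Subtype.ext (fix_comm hinj hqX hcard hv c.2 d.2)
  haveI : Group.IsNilpotent C :=
    letI : CommGroup C := { (inferInstance : Group C) with mul_comm := hCc }
    inferInstance
  refine CfsgLib.SolvStruct.KW.isSolvable_of_nilpotent_mul _ rfl (P : Subgroup X) C
    P.isPGroup'.isNilpotent inferInstance fun x => ?_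
  obtain ⟨y, hy, hyv⟩ := hcov x v
  refine ⟨y, hy, y⁻¹ * x, ?_, by group⟩
  show ρ (y⁻¹ * x) v = v
  rw [map_mul, Module.End.mul_apply, ← hyv, rho_inv_apply]

theorem below_all (n : ℕ) : Below.{u, v} q n := by
  induction n using Nat.strong_induction_on with
  | _ n ih =>
    intro V _ _ _ hlt X _ _ ρ hinj hqX P hcov
    have hbel : Below.{u, v} q (Nat.card V) := ih _ hlt
    by_cases hirr : ∀ U : Submodule (ZMod q) V, (∀ g ∈ (P : Subgroup X), ∀ v ∈ U, ρ g v ∈ U) → U = ⊥ ∨ U = ⊤
    swap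
    · push Not at hirr
      obtain ⟨U, hU, hb, ht⟩ := hirr
      exact solvable_reducible hbel hinj hqX P hcov U hU hb ht
    by_cases hprim : ∀ H : Subgroup (P : Subgroup X), H.index = 2 → ∀ U : Submodule (ZMod q) V,
        (∀ g ∈ H, ∀ v ∈ U, ρ (g : X) v ∈ U) → U = ⊥ ∨ U = ⊤
    · exact solvable_primitive hinj hqX P hcov hirr hprim
    · push Not at hprim
      obtain ⟨H, hH, U, hU, hb, ht⟩ := hprim
      exact solvable_imprimitive hbel hinj hqX P hcov hirr H hH U hU hb ht

/-- A linear `q'`-group whose orbits are those of a Sylow `2`-subgroup is solvable. -/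
theorem isSolvable_of_covered {V : Type v} [AddCommGroup V] [Module (ZMod q) V] [Finite V]
    {X : Type u} [Group X] [Finite X] (ρ : Representation (ZMod q) X V) (hinj : Function.Injective ρ)
    (hqX : ¬ q ∣ Nat.card X) (P : Sylow 2 X) (hcov : Covered ρ (P : Subgroup X)) :
    Group.IsSolvable X :=
  below_all (Nat.card V + 1) V (Nat.lt_succ_self _) X ρ hinj hqX P hcov

end CfsgLib.CharApps.QBaer
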