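import Cfsg.Agent.Lib.CharApps.QBaer.Structure

/-!
# Solvability modulo `O_{q'}` of a `q`-Baer group
-/

set_option autoImplicit false
set_option linter.style.haveILetI false

namespace CfsgLib.CharApps.QBaer

open Cfsg CfsgLib.Base

variable {q : ℕ} [hq : Fact q.Prime]

/-- A faithful coprime action on an elementary abelian group whose orbits are orbits of a Sylow
`p`-subgroup. -/
theorem solvable_of_covered_action {A : Type*} [CommGroup A] [Finite A] {X : Type*} [Group X]
    [Finite X] (φ : X →* MulAut A) (hφ : Function.Injective φ) (hA : ∀ a : A, a ^ q = 1)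
    (hqX : ¬ q ∣ Nat.card X) {p : ℕ} [hp : Fact p.Prime] (P : Sylow p X)
    (hcov : ∀ (x : X) (a : A), ∃ g ∈ (P : Subgroup X), φ g a = φ x a) : Group.IsSolvable X := by
  by_cases hodd : Odd (Nat.card X)
  · exact CfsgLib.FT.isSolvable_of_odd hodd
  haveI := Fact.mk Nat.prime_two
  obtain ⟨t, ht⟩ := exists_prime_orderOf_dvd_card' (G := X) 2
    (even_iff_two_dvd.1 (Nat.not_odd_iff_even.1 hodd))
  have hq2 : q ≠ 2 := fun h => hqX (h ▸ even_iff_two_dvd.1 (Nat.not_odd_iff_even.1 hodd))
  have hp2 : p = 2 := by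
    obtain ⟨v, hv⟩ : ∃ v : A, φ t v ≠ v := by
      by_contra h
      push Not at h
      have : φ t = φ 1 := MulEquiv.ext fun v => by rw [h v, map_one, MulAut.one_apply]
      rw [hφ this, orderOf_one] at ht
      omega
    obtain ⟨w, hw⟩ : ∃ w, w = φ t v * v⁻¹ := ⟨_, rfl⟩
    have htt : φ t (φ t v) = v := by
      rw [← MulAut.mul_apply, ← map_mul]
      have : t * t = 1 := by rw [← pow_two, ← ht, pow_orderOf_eq_one]
      rw [this, map_one, MulAut.one_apply]
    have hwt : φ t w = w⁻¹ := by rw [hw, map_mul, map_inv, htt, mul_inv_rev, inv_inv]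
    have hw1 : w ≠ 1 := by rw [hw, ne_eq, mul_inv_eq_one]; exact hv
    have hwne : w⁻¹ ≠ w := by
      intro h
      have h2 : orderOf w ∣ 2 := orderOf_dvd_of_pow_eq_one (by
        rw [pow_two]; nth_rw 1 [← h]; exact inv_mul_cancel w)
      have h3 := Nat.dvd_gcd (orderOf_dvd_of_pow_eq_one (hA w)) h2
      rw [((Nat.coprime_primes hq.out Nat.prime_two).2 hq2).gcd_eq_one, Nat.dvd_one,
        orderOf_eq_one_iff] at h3
      exact hw1 h3
    by_contra hp2
    obtain ⟨g, hg, hgw⟩ := hcov t w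
    rw [hwt] at hgw
    have h2 : φ (g ^ 2) w = w := by
      rw [pow_two, map_mul, MulAut.mul_apply, hgw, map_inv, hgw, inv_inv]
    obtain ⟨k, hk⟩ := P.isPGroup' ⟨g, hg⟩
    have hk' : g ^ p ^ k = 1 := by simpa using congrArg Subtype.val hk
    obtain ⟨m, hm⟩ := Nat.odd_iff.2 (Nat.odd_iff.1 ((hp.out.odd_of_ne_two hp2).pow (n := k)))
    have hpow : ∀ i : ℕ, φ ((g ^ 2) ^ i) w = w := by
      intro i
      induction i with
      | zero => rw [pow_zero, map_one, MulAut.one_apply]
      | succ i ih => rw [pow_succ, map_mul, MulAut.mul_apply, h2, ih]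
    have hfix := hpow m
    rw [← pow_mul] at hfix
    rw [hm] at hk'
    have : φ g w = w := by
      conv_rhs => rw [← MulAut.one_apply A w, ← map_one φ, ← hk', pow_succ', map_mul,
        MulAut.mul_apply, hfix]
    exact hwne (hgw.symm.trans this)
  subst hp2
  letI : Module (ZMod q) (Additive A) :=
    AddCommGroup.zmodModule (n := q) (fun a => (show Additive.ofMul (a.toMul ^ q) = Additive.ofMul 1 from congrArg Additive.ofMul (hA a.toMul)))
  let ψ : X → Module.End (ZMod q) (Additive A) :=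
    fun x => ((φ x).toMonoidHom.toAdditive).toZModLinearMap q
  have hψ : ∀ x (a : Additive A), ψ x a = Additive.ofMul (φ x a.toMul) := fun x a => rfl
  let ρ : Representation (ZMod q) X (Additive A) :=
    MonoidHom.mk ⟨ψ, LinearMap.ext fun a => by rw [hψ, map_one]; rfl⟩
      (fun x y => LinearMap.ext fun a => by rw [hψ, map_mul, Module.End.mul_apply, hψ, hψ]; rfl)
  have hρ : ∀ x (a : A), ρ x (Additive.ofMul a) = Additive.ofMul (φ x a) := fun x a => rfl
  refine isSolvable_of_covered ρ (fun x y hxy => hφ (MulEquiv.ext fun a => ?_)) hqX P fun x v => ?_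
  · have := LinearMap.congr_fun hxy (Additive.ofMul a)
    rw [hρ, hρ] at this
    exact Additive.ofMul.injective this
  · obtain ⟨g, hg, hgv⟩ := hcov x v.toMul
    exact ⟨g, hg, (hρ g v.toMul).trans ((congrArg Additive.ofMul hgv).trans (hρ x v.toMul).symm)⟩

/-- A coprime automorphism centralizing `Ω₁` of an abelian `q`-group centralizes it. -/
theorem fix_of_fix_omega {H : Type*} [Group H] [Finite H] {U : Subgroup H} [hU : U.Normal]
    (hab : ∀ u ∈ U, ∀ v ∈ U, u * v = v * u) {n : H} (hn : (orderOf n).Coprime q)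
    (hfix : ∀ u ∈ U, u ^ q = 1 → n * u = u * n) (hUp : IsPGroup q U) :
    ∀ u ∈ U, n * u = u * n := by
  suffices ∀ (k : ℕ), ∀ u ∈ U, u ^ q ^ k = 1 → n * u = u * n by
    intro u hu
    obtain ⟨k, hk⟩ := hUp ⟨u, hu⟩
    exact this k u hu (by simpa using congrArg Subtype.val hk)
  intro k
  induction k with
  | zero => intro u _ h; rw [pow_zero, pow_one] at h; rw [h, mul_one, one_mul]
  | succ k ih =>
    intro u hu h
    set d := n * u * n⁻¹ * u⁻¹ with hd
    have hnu : n * u * n⁻¹ ∈ U := hU.conj_mem u hu n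
    have hdU : d ∈ U := mul_mem hnu (inv_mem hu)
    have huq := ih (u ^ q) (pow_mem hu q) (by rw [← pow_mul, ← pow_succ']; exact h)
    have hdq : d ^ q = 1 := by
      rw [hd, (show Commute (n * u * n⁻¹) u⁻¹ from hab _ hnu _ (inv_mem hu)).mul_pow, conj_pow, huq,
        mul_inv_cancel_right, inv_pow, mul_inv_cancel]
    have h1 := eq_one_of_conj_eq_mul (z := u) (c := d) (k := 1) hn (by rw [pow_one]; exact hdq)
      (hfix d hdU hdq) (by rw [hd]; group)
    rw [hd, mul_inv_eq_one, mul_inv_eq_iff_eq_mul] at h1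
    exact h1

/-- The group modulo `O_{q'}`. -/
theorem isSolvable_core {H : Type*} [Group H] [Finite H] (hO : pPrimeCore q H = ⊥)
    (hidx : ¬ q ∣ (pCore q H).index) (hab : ∀ u ∈ pCore q H, ∀ v ∈ pCore q H, u * v = v * u)
    {p : ℕ} [hp : Fact p.Prime] (hpq : p ≠ q)
    (hcl : ∀ u ∈ pCore q H, ∃ a, (Subgroup.centralizer ({u} : Set H)).index = p ^ a) :
    Group.IsSolvable H := by
  set U := pCore q H with hUdef
  haveI hUn : U.Normal := pCore_normal q H
  have hUp : IsPGroup q U := isPGroup_pCore q H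
  have hUC : U ≤ Subgroup.centralizer (U : Set H) := fun u hu =>
    Subgroup.mem_centralizer_iff.2 fun v hv => hab v hv u hu
  have hCU : Subgroup.centralizer (U : Set H) ≤ U := by
    refine PLocal.le_of_central_of_pPrimeCore_eq_bot hO hUC le_rfl hUp ?_
    exact ((hq.out.coprime_iff_not_dvd).2
      fun h => hidx (h.trans (Subgroup.relIndex_dvd_index_of_le hUC))).symm
  obtain ⟨m, hm⟩ := hUp.exists_card_eq
  obtain ⟨N, hN⟩ := Subgroup.exists_left_complement'_of_coprime (N := U)
    (hm ▸ ((hq.out.coprime_iff_not_dvd).2 hidx).pow_left m)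
  have hqN : ¬ q ∣ Nat.card N := fun h => hidx (hN.index_eq_card ▸ h)
  let A : Subgroup H :=
    { carrier := {u | u ∈ U ∧ u ^ q = 1}
      one_mem' := ⟨one_mem U, one_pow q⟩
      mul_mem' := fun {u v} hu hv =>
        ⟨mul_mem hu.1 hv.1, by rw [(show Commute u v from hab u hu.1 v hv.1).mul_pow, hu.2, hv.2, one_mul]⟩
      inv_mem' := fun {u} hu => ⟨inv_mem hu.1, by rw [inv_pow, hu.2, inv_one]⟩ }
  haveI hAn : A.Normal := ⟨fun u hu g => ⟨hUn.conj_mem u hu.1 g,
    by rw [conj_pow, hu.2, mul_one, mul_inv_cancel]⟩⟩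
  letI : CommGroup A :=
    { (inferInstance : Group A) with mul_comm := fun u v => Subtype.ext (hab u u.2.1 v v.2.1) }
  let φ : N →* MulAut A := MulAut.conjNormal.comp N.subtype
  have hφ : ∀ (n : N) (u : A), ((φ n u : A) : H) = n * u * (n : H)⁻¹ := fun n u =>
    MulAut.conjNormal_apply _ _
  have hφi : Function.Injective φ := by
    rw [← MonoidHom.ker_eq_bot_iff, eq_bot_iff]
    intro n hn
    rw [Subgroup.mem_bot, Subtype.ext_iff, Subgroup.coe_one]
    have hncop : (orderOf (n : H)).Coprime q := by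
      refine (((hq.out.coprime_iff_not_dvd).2 hqN).symm).coprime_dvd_left ?_
      rw [Subgroup.orderOf_coe]; exact orderOf_dvd_natCard n
    have h := fix_of_fix_omega hab hncop (fun u hu huq => by
      have := congrArg (fun e : MulAut A => ((e ⟨u, hu, huq⟩ : A) : H)) (MonoidHom.mem_ker.1 hn)
      simp only [hφ, MulAut.one_apply] at this
      exact mul_inv_eq_iff_eq_mul.1 this) hUp
    have hnU : (n : H) ∈ U :=
      hCU (Subgroup.mem_centralizer_iff.2 fun u hu => (h u hu).symm)
    have := hN.disjoint.le_bot ⟨n.2, hnU⟩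
    exact this
  obtain ⟨P⟩ : Nonempty (Sylow p N) := inferInstance
  -- `P` is a Sylow subgroup of the whole group
  have hPidx : ¬ p ∣ ((P : Subgroup N).map N.subtype).index := by
    rw [Subgroup.index_map, Subgroup.ker_subtype, sup_bot_eq, Subgroup.range_subtype]
    intro h
    rcases hp.out.dvd_mul.1 h with h | h
    · exact P.not_dvd_index h
    · rw [hN.symm.index_eq_card, hm] at h
      exact hpq ((Nat.prime_dvd_prime_iff_eq hp.out hq.out).1 (hp.out.dvd_of_dvd_pow h))
  haveI hNs : Group.IsSolvable N := by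
    refine solvable_of_covered_action φ hφi (fun u => Subtype.ext (by simpa using u.2.2)) hqN P
      fun x u => ?_
    obtain ⟨a, ha⟩ := hcl u u.2.1
    obtain ⟨y, hy, hc⟩ := exists_left_factor
      (by rw [ha]; exact ((hp.out.coprime_iff_not_dvd).2 hPidx).pow_left a :
        (Subgroup.centralizer ({(u : H)} : Set H)).index.Coprime
          ((P : Subgroup N).map N.subtype).index) (x : H)
    obtain ⟨g, hg, rfl⟩ := hy
    refine ⟨g, hg, Subtype.ext ?_⟩
    rw [hφ, hφ]
    have h1 := Subgroup.mem_centralizer_singleton_iff.1 hc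
    rw [Subgroup.coe_subtype] at h1
    calc (g : H) * u * (g : H)⁻¹ = g * (u * ((g : H)⁻¹ * x)) * (x : H)⁻¹ := by group
      _ = g * (((g : H)⁻¹ * x) * u) * (x : H)⁻¹ := by rw [h1]
      _ = x * u * (x : H)⁻¹ := by group
  haveI : Group.IsSolvable U := Group.isSolvable_of_comm fun u v => Subtype.ext (hab u u.2 v v.2)
  haveI : Group.IsSolvable (H ⧸ U) := by
    refine Group.isSolvable_of_surjective (f := (QuotientGroup.mk' U).comp N.subtype) fun y => ?_
    obtain ⟨y, rfl⟩ := QuotientGroup.mk'_surjective U y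
    obtain ⟨⟨n, u⟩, hnu, -⟩ := hN.existsUnique y
    refine ⟨n, ?_⟩
    simp only at hnu
    rw [← hnu, MonoidHom.comp_apply, map_mul,
      (show QuotientGroup.mk' U (u : H) = 1 from (QuotientGroup.eq_one_iff (u : H)).2 u.2), mul_one]
    rfl
  exact (Group.isSolvable_iff_subgroup_quotient U).2 ⟨inferInstance, inferInstance⟩

/-- `G/O_{q'}(G)` is solvable. -/
theorem isSolvable_quotient {G : Type*} [Group G] [Finite G] (Q : Sylow q G) (hB : SylowBaer Q)
    (hab : IsMulCommutative (Q : Subgroup G)) {p : ℕ} [Fact p.Prime] (hpq : p ≠ q)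
    (hp : ∀ x ∈ (Q : Subgroup G), ∃ a, (Subgroup.centralizer ({x} : Set G)).index = p ^ a) :
    Group.IsSolvable (G ⧸ pPrimeCore q G) := by
  set f := QuotientGroup.mk' (pPrimeCore q G) with hf
  have hfs : Function.Surjective f := QuotientGroup.mk'_surjective _
  have hU := map_sylow_eq_pCore Q hB
  refine isSolvable_core (pPrimeCore_quotient_pPrimeCore q G) ?_ ?_ hpq ?_
  · rw [← hU]
    exact fun h => Q.not_dvd_index (h.trans (Subgroup.index_map_dvd _ hfs))
  · rw [← hU]
    rintro _ ⟨u, hu, rfl⟩ _ ⟨v, hv, rfl⟩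
    rw [← map_mul, ← map_mul]
    exact congrArg _ (congrArg Subtype.val (hab.is_comm.comm (⟨u, hu⟩ : (Q : Subgroup G)) ⟨v, hv⟩))
  · rw [← hU]
    rintro _ ⟨u, hu, rfl⟩
    obtain ⟨a, ha⟩ := hp u hu
    obtain ⟨j, -, hj⟩ := (Nat.dvd_prime_pow (Fact.out : p.Prime)).1
      (ha ▸ index_centralizer_map_dvd f hfs u)
    exact ⟨j, hj⟩

end CfsgLib.CharApps.QBaer
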