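import Cfsg.Agent.Lib.CharApps.QBaer.Classes
import Cfsg.Agent.Lib.CharApps.QBaer.Linear
import Cfsg.Agent.Lib.PLocal.PSolvable
import Cfsg.Agent.Lib.Base.MinimalNormal
import Cfsg.Agent.Lib.FT.OddOrderTheorem

/-!
# The `q`-Baer groups
-/

set_option autoImplicit false
set_option linter.style.haveILetI false

namespace CfsgLib.CharApps.QBaer

open Cfsg CfsgLib.Base

variable {G : Type*} [Group G] [Finite G] {q : ℕ} [hq : Fact q.Prime]

/-- The hypothesis on the elements of a Sylow subgroup. -/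
def SylowBaer (Q : Sylow q G) : Prop :=
  ∀ x ∈ (Q : Subgroup G), ∃ (r a : ℕ), r.Prime ∧
    (Subgroup.centralizer ({x} : Set G)).index = r ^ a

/-- A solvable normal subgroup containing the Sylow subgroup. -/
theorem exists_solvable_normal (Q : Sylow q G) (hB : SylowBaer Q) :
    ∃ S : Subgroup G, S.Normal ∧ Group.IsSolvable S ∧ (Q : Subgroup G) ≤ S := by
  classical
  haveI := Fintype.ofFinite G
  let f : ↥(Q : Subgroup G) → Subgroup G := fun x => Subgroup.normalClosure ({(x : G)} : Set G)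
  have hs : ∀ x, Group.IsSolvable (f x) := fun x => by
    obtain ⟨r, a, hr, ha⟩ := hB x x.2
    exact Kazarin.isSolvable_normalClosure (x : G) hr ha
  haveI := Fintype.ofFinite (Q : Subgroup G)
  obtain ⟨h1, h2⟩ := Kazarin.isSolvable_iSup_normal f (fun _ => Subgroup.normalClosure_normal) hs
    Finset.univ
  refine ⟨_, h1, h2, fun x hx => ?_⟩
  exact Finset.le_sup (f := f) (Finset.mem_univ ⟨x, hx⟩)
    (Subgroup.subset_normalClosure (Set.mem_singleton x))

/-- Modulo `O_{q'}` the Sylow subgroup is normal. -/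
theorem map_sylow_eq_pCore (Q : Sylow q G) (hB : SylowBaer Q) :
    (Q : Subgroup G).map (QuotientGroup.mk' (pPrimeCore q G)) =
      pCore q (G ⧸ pPrimeCore q G) := by
  set f := QuotientGroup.mk' (pPrimeCore q G) with hf
  have hfs : Function.Surjective f := QuotientGroup.mk'_surjective _
  refine le_antisymm ?_ ((pCore_le_sylow (Q.mapSurjective hfs)).trans_eq
    (Sylow.coe_mapSurjective hfs Q))
  rintro _ ⟨x, hx, rfl⟩
  obtain ⟨r, a, hr, ha⟩ := hB x hx
  by_cases hrq : r = q
  · subst hrq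
    exact map_pCore_le f hfs ⟨x, mem_pCore_of_class Q hx ha, rfl⟩
  obtain ⟨j, -, hj⟩ := (Nat.dvd_prime_pow hr).1 (ha ▸ index_centralizer_map_dvd f hfs x)
  have hc := Kazarin.pCore_le_centralizer_of_class (q := q) hr hj (Ne.symm hrq)
  obtain ⟨S, hSn, hSs, hQS⟩ := exists_solvable_normal Q hB
  set T := S.map f with hT
  haveI hTn : T.Normal := hSn.map f hfs
  haveI : Group.IsSolvable T := by
    haveI := hSs
    exact Group.isSolvable_of_surjective (f := f.subgroupMap S) (f.subgroupMap_surjective S)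
  have hO : pPrimeCore q T = ⊥ := by
    rw [← Subgroup.map_eq_bot_iff_of_injective _ T.subtype_injective, ← le_bot_iff,
      ← pPrimeCore_quotient_pPrimeCore q G]
    haveI : (pPrimeCore q T).Characteristic := inferInstance
    haveI : ((pPrimeCore q T).map T.subtype).Normal := inferInstance
    exact le_pPrimeCore (coprime_card_map_pPrimeCore T)
  have hxT : f x ∈ T := ⟨x, hQS hx, rfl⟩
  have hcore : (pCore q T).map T.subtype ≤ pCore q (G ⧸ pPrimeCore q G) := by
    haveI : (pCore q T).Characteristic := inferInstance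
    haveI : ((pCore q T).map T.subtype).Normal := inferInstance
    exact le_pCore (isPGroup_map_pCore q T)
  have hmem : (⟨f x, hxT⟩ : T) ∈ Subgroup.centralizer (pCore q T : Set T) :=
    Subgroup.mem_centralizer_iff.2 fun u hu => Subtype.ext
      (Subgroup.mem_centralizer_singleton_iff.1 (hc (hcore ⟨u, hu, rfl⟩)))
  exact hcore ⟨⟨f x, hxT⟩, centralizer_pCore_le_of_isSolvable hO hmem, rfl⟩

/-- `q`-solvability of `q`-length one. -/
theorem qLength_one (Q : Sylow q G) (hB : SylowBaer Q) :
    ∃ K L : Subgroup G, K.Normal ∧ L.Normal ∧ K ≤ L ∧ (Nat.card K).Coprime q ∧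
      (∃ m : ℕ, K.relIndex L = q ^ m) ∧ L.index.Coprime q := by
  set f := QuotientGroup.mk' (pPrimeCore q G) with hf
  have hfs : Function.Surjective f := QuotientGroup.mk'_surjective _
  refine ⟨pPrimeCore q G, (pCore q (G ⧸ pPrimeCore q G)).comap f, pPrimeCore_normal q G,
    (pCore_normal q _).comap f, QuotientGroup.le_comap_mk' _ _, pPrimeCore_coprime q G, ?_, ?_⟩
  · obtain ⟨m, hm⟩ := (isPGroup_pCore q (G ⧸ pPrimeCore q G)).exists_card_eq
    refine ⟨m, ?_⟩
    rw [← PLocal.card_map_mk'_eq_relIndex, map_mk'_comap, hm]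
  · rw [Subgroup.index_comap_of_surjective _ hfs, ← map_sylow_eq_pCore Q hB]
    exact ((hq.out.coprime_iff_not_dvd).2
      fun h => Q.not_dvd_index (h.trans (Subgroup.index_map_dvd _ hfs))).symm

/-- A noncentral class of size prime to `q` lies in the centre of the Sylow subgroup. -/
theorem mem_centralizer_sylow (Q : Sylow q G) (hB : SylowBaer Q) :
    ∀ x ∈ (Q : Subgroup G), ∀ r a : ℕ, r.Prime → r ≠ q →
      (Subgroup.centralizer ({x} : Set G)).index = r ^ a →
      x ∈ Subgroup.centralizer ((Q : Subgroup G) : Set G) := by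
  intro x hx r a hr hrq ha
  set f := QuotientGroup.mk' (pPrimeCore q G) with hf
  have hfs : Function.Surjective f := QuotientGroup.mk'_surjective _
  obtain ⟨j, -, hj⟩ := (Nat.dvd_prime_pow hr).1 (ha ▸ index_centralizer_map_dvd f hfs x)
  have hc := Kazarin.pCore_le_centralizer_of_class (q := q) hr hj (Ne.symm hrq)
  refine Subgroup.mem_centralizer_iff.2 fun y hy => ?_
  have hfy : f y ∈ (Q : Subgroup G).map f := ⟨y, hy, rfl⟩
  rw [map_sylow_eq_pCore Q hB] at hfy
  have h := Subgroup.mem_centralizer_singleton_iff.1 (hc hfy)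
  rw [← map_mul, ← map_mul] at h
  have h1 : (y * x)⁻¹ * (x * y) ∈ pPrimeCore q G := QuotientGroup.eq.1 h
  have h2 : (y * x)⁻¹ * (x * y) ∈ (Q : Subgroup G) :=
    mul_mem (inv_mem (mul_mem hy hx)) (mul_mem hx hy)
  have hdisj : pPrimeCore q G ⊓ (Q : Subgroup G) = ⊥ := by
    obtain ⟨m, hm⟩ := Q.isPGroup'.exists_card_eq
    exact Subgroup.inf_eq_bot_of_coprime (hm ▸ (pPrimeCore_coprime q G).pow_right m)
  have h3 : (y * x)⁻¹ * (x * y) ∈ pPrimeCore q G ⊓ (Q : Subgroup G) := ⟨h1, h2⟩
  rw [hdisj, Subgroup.mem_bot, inv_mul_eq_one] at h3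
  exact h3

/-- `O_p(G)Q` is normal when the classes of `Q` have `p`-power size. -/
theorem sup_pCore_normal (Q : Sylow q G) {p : ℕ} [Fact p.Prime]
    (hp : ∀ x ∈ (Q : Subgroup G), ∃ a, (Subgroup.centralizer ({x} : Set G)).index = p ^ a) :
    (pCore p G ⊔ (Q : Subgroup G)).Normal := by
  haveI := pCore_normal p G
  set f := QuotientGroup.mk' (pCore p G) with hf
  have hfs : Function.Surjective f := QuotientGroup.mk'_surjective _
  have heq : (Q : Subgroup G).map f = pCore q (G ⧸ pCore p G) := by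
    refine le_antisymm ?_ ((pCore_le_sylow (Q.mapSurjective hfs)).trans_eq
      (Sylow.coe_mapSurjective hfs Q))
    rintro _ ⟨x, hx, rfl⟩
    obtain ⟨a, ha⟩ := hp x hx
    obtain ⟨j, -, hj⟩ := (Nat.dvd_prime_pow (Fact.out : p.Prime)).1
      (ha ▸ index_centralizer_map_dvd f hfs x)
    have hcomm := Kazarin.conj_comm_of_pCore_eq_bot hj (pCore_quotient_pCore p G)
    set A := Subgroup.normalClosure ({f x} : Set (G ⧸ pCore p G))
    haveI : A.Normal := Subgroup.normalClosure_normal
    obtain ⟨k, hk⟩ := Q.isPGroup' ⟨x, hx⟩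
    have hxk : f x ^ q ^ k = 1 := by
      have hk' : x ^ q ^ k = 1 := by simpa using congrArg Subtype.val hk
      rw [← map_pow, hk', map_one]
    have hA : IsPGroup q A := by
      rintro ⟨u, hu⟩
      refine ⟨k, Subtype.ext ?_⟩
      show u ^ q ^ k = 1
      change u ∈ Subgroup.closure (Group.conjugatesOfSet ({f x} : Set (G ⧸ pCore p G))) at hu
      induction hu using Subgroup.closure_induction with
      | mem v hv =>
        obtain ⟨w, hw, hconj⟩ := Group.mem_conjugatesOfSet_iff.1 hv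
        obtain rfl : w = f x := hw
        obtain ⟨g, rfl⟩ := isConj_iff.1 hconj
        rw [conj_pow, hxk, mul_one, mul_inv_cancel]
      | one => exact one_pow _
      | mul v w hv hw ihv ihw =>
        rw [(show Commute v w from hcomm v hv w hw).mul_pow, ihv, ihw, one_mul]
      | inv v _ ih => rw [inv_pow, ih, inv_one]
    exact le_pCore hA (Subgroup.subset_normalClosure (Set.mem_singleton _))
  have h := (pCore_normal q (G ⧸ pCore p G)).comap f
  rw [← heq, comap_map_mk', sup_comm] at h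
  exact h

/-- In an abelian Sylow subgroup one prime serves for all elements. -/
theorem one_prime (Q : Sylow q G) (hB : SylowBaer Q) (hab : IsMulCommutative (Q : Subgroup G))
    {x : G} (hx : x ∈ (Q : Subgroup G)) {r a : ℕ} (hr : r.Prime) (ha0 : a ≠ 0)
    (ha : (Subgroup.centralizer ({x} : Set G)).index = r ^ a)
    {y : G} (hy : y ∈ (Q : Subgroup G)) :
    ∃ b, (Subgroup.centralizer ({y} : Set G)).index = r ^ b := by
  have hne : ∀ u ∈ (Q : Subgroup G), ¬ q ∣ (Subgroup.centralizer ({u} : Set G)).index := by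
    intro u hu h
    refine Q.not_dvd_index (h.trans (Subgroup.index_dvd_of_le fun v hv => ?_))
    exact Subgroup.mem_centralizer_singleton_iff.2
      (congrArg Subtype.val (hab.is_comm.comm (⟨v, hv⟩ : (Q : Subgroup G)) ⟨u, hu⟩))
  obtain ⟨s, b, hs, hb⟩ := hB y hy
  by_cases hb0 : b = 0
  · exact ⟨0, by rw [hb, hb0, pow_zero, pow_zero]⟩
  by_cases hsr : s = r
  · exact ⟨b, hsr ▸ hb⟩
  exfalso
  have hrq : r ≠ q := fun h => hne x hx (ha ▸ h ▸ dvd_pow_self r ha0)
  have hsq : s ≠ q := fun h => hne y hy (hb ▸ h ▸ dvd_pow_self s hb0)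
  have hxy : x * y = y * x :=
    congrArg Subtype.val (hab.is_comm.comm (⟨x, hx⟩ : (Q : Subgroup G)) ⟨y, hy⟩)
  have hq' : ∀ u ∈ (Q : Subgroup G), ∃ k, u ^ q ^ k = 1 := fun u hu => by
    obtain ⟨k, hk⟩ := Q.isPGroup' ⟨u, hu⟩
    exact ⟨k, by simpa using congrArg Subtype.val hk⟩
  obtain ⟨t, c, ht, hc⟩ := hB (x * y) (mul_mem hx hy)
  have hle : Subgroup.centralizer ({x} : Set G) ⊓ Subgroup.centralizer ({y} : Set G) ≤
      Subgroup.centralizer ({x * y} : Set G) := by
    rintro u ⟨hu1, hu2⟩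
    rw [Subgroup.mem_centralizer_singleton_iff]
    exact Commute.mul_right (Subgroup.mem_centralizer_singleton_iff.1 hu1)
      (Subgroup.mem_centralizer_singleton_iff.1 hu2)
  by_cases hc0 : c = 0
  · have hz : ∀ g : G, g * (x * y) = x * y * g := fun g => by
      have h : Subgroup.centralizer ({x * y} : Set G) = ⊤ := by
        rw [← Subgroup.index_eq_one, hc, hc0, pow_zero]
      exact Subgroup.mem_centralizer_singleton_iff.1 (h ▸ Subgroup.mem_top g)
    -- then `x` and `y` have the same centralizer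
    have hxy' : Subgroup.centralizer ({x} : Set G) ≤ Subgroup.centralizer ({y} : Set G) := by
      intro g hg
      rw [Subgroup.mem_centralizer_singleton_iff] at hg ⊢
      calc g * y = x⁻¹ * (x * g) * y := by group
        _ = x⁻¹ * (g * x) * y := by rw [hg]
        _ = x⁻¹ * (g * (x * y)) := by group
        _ = x⁻¹ * (x * y * g) := by rw [hz]
        _ = y * g := by group
    have h := Subgroup.index_dvd_of_le hxy'
    rw [hb, ha] at h
    exact hsr ((Nat.prime_dvd_prime_iff_eq hs hr).1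
      (hs.dvd_of_dvd_pow ((dvd_pow_self s hb0).trans h)))
  by_cases htr : t = r
  · subst htr
    have h := no_two_primes_aux hr hs (Ne.symm hsr) hrq hxy (hq' y hy) ha hb hc
    rw [hb, pow_eq_one_iff_left hb0] at h
    exact hs.one_lt.ne' h
  by_cases hts : t = s
  · subst hts
    have h := no_two_primes_aux hs hr hsr hsq hxy.symm (hq' x hx) hb ha (hxy ▸ hc)
    rw [ha, pow_eq_one_iff_left ha0] at h
    exact hr.one_lt.ne' h
  · have h : t ∣ r ^ a * s ^ b := by
      refine (hc ▸ dvd_pow_self t hc0).trans ((Subgroup.index_dvd_of_le hle).trans ?_)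
      rw [← Subgroup.relIndex_mul_index (inf_le_left : _ ⊓ Subgroup.centralizer ({y} : Set G) ≤ _),
        Subgroup.inf_relIndex_left, ha, mul_comm]
      refine mul_dvd_mul_left _ (dvd_of_eq ?_)
      rw [← hb]
      exact le_antisymm ((Subgroup.relIndex_le_of_le_right le_top
        Subgroup.index_ne_zero_of_finite).trans_eq (Subgroup.relIndex_top_right _))
        (Nat.le_of_dvd (Nat.pos_of_ne_zero Subgroup.index_ne_zero_of_finite)
          (index_dvd_relIndex (by rw [hb, ha]; exact ((Nat.coprime_primes hs hr).2 hsr).pow b a)))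
    rcases ht.dvd_mul.1 h with h | h
    · exact htr ((Nat.prime_dvd_prime_iff_eq ht hr).1 (ht.dvd_of_dvd_pow h))
    · exact hts ((Nat.prime_dvd_prime_iff_eq ht hs).1 (ht.dvd_of_dvd_pow h))

/-- One prime serves for the whole Sylow subgroup. -/
theorem exists_prime (Q : Sylow q G) (hB : SylowBaer Q) :
    ∃ p : ℕ, p.Prime ∧
      (∀ x ∈ (Q : Subgroup G), ∃ a, (Subgroup.centralizer ({x} : Set G)).index = p ^ a) ∧
      (p ≠ q → IsMulCommutative (Q : Subgroup G)) := by
  by_cases hA : ∀ x ∈ (Q : Subgroup G), ∃ a, (Subgroup.centralizer ({x} : Set G)).index = q ^ a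
  · exact ⟨q, hq.out, hA, fun h => absurd rfl h⟩
  have hab := (abelian_or_all_q Q hB (mem_centralizer_sylow Q hB)).resolve_right hA
  push Not at hA
  obtain ⟨x, hx, hxq⟩ := hA
  obtain ⟨r, a, hr, ha⟩ := hB x hx
  have ha0 : a ≠ 0 := fun h => hxq 0 (by rw [ha, h, pow_zero, pow_zero])
  exact ⟨r, hr, fun y hy => one_prime Q hB hab hx hr ha0 ha hy, fun _ => hab⟩

end CfsgLib.CharApps.QBaer
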